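import Cfsg.Agent.ODD.C3.MMain

/-!
# ODD / GAL: the diagonal automorphisms of `PSp_{2k}(F)` in the Witt model (helper1)

`del a μ : PSp k F ≃* PSp k F` is the conjugation with the similitude `e_i ↦ a_i e_i`, `f_i ↦ μ a_i⁻¹ f_i`.

* `del_X`, `del_UU`, `del_T`, `del_n`, `del_rp`, `del_Phi` (with `d2`, `d2_x`), `del_short`;
* `del_del`, `del_inner` (`μ` a square), `del_sq`;
* `dK c` : long root groups times `c`, simple short root groups fixed; `dR c` : all simple root groups times `c`.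
-/

set_option autoImplicit false
set_option linter.unusedSectionVars false

open Cfsg

namespace Cfsg.Agent.ODD.C3

open CoxeterSystem Cfsg.Agent.ChevalleyStructure.CoxeterGeom Cfsg.Agent.Tits.Roots Cfsg.Agent.Nodes.Reps
  Cfsg.Agent.Nodes.BNOf Cfsg.Agent.Nodes.Bruhat Cfsg.Agent.H684.OQ Cfsg.Agent.H381.OQ Cfsg.Agent.H69.OQ Cfsg.Agent.ODD.PS
open Cfsg.Agent.ClassicalGeometry.SympBasic Cfsg.Agent.H670 Cfsg.Agent.H670.SL2 Cfsg.Agent.ODD.PS.C3
open Cfsg.Agent.TitsThree Cfsg.Agent.TitsThree.Siegel Cfsg.Agent.TitsThree.WittFrame Cfsg.Agent.TitsThree.WittWeyl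
  Cfsg.Agent.TitsThree.SpIdent Cfsg.Agent.TitsThree.FrameCN
open Cfsg.Agent.Nodes Cfsg.Agent.Nodes.WittRoot Cfsg.Agent.ODD.PW
open Cfsg.Agent.Nodes.TypeC Cfsg.Agent.Nodes.WittRGD

section Gen

variable {G K : Type*} [Group G] [Group K]

/-- the endomorphism induced on a quotient -/
noncomputable def indHom (φ : G →* K) (hφ : Function.Surjective φ) (α : G →* G) (h : ∀ g, φ g = 1 → φ (α g) = 1) :
    K →* K := φ.liftOfSurjective hφ ⟨φ.comp α, h⟩

theorem indHom_apply (φ : G →* K) (hφ : Function.Surjective φ) (α : G →* G) (h : ∀ g, φ g = 1 → φ (α g) = 1) (g : G) :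
    indHom φ hφ α h (φ g) = φ (α g) := MonoidHom.liftOfRightInverse_comp_apply _ _ _ _ _

/-- the automorphism induced on a quotient -/
noncomputable def indAut (φ : G →* K) (hφ : Function.Surjective φ) (α : G ≃* G) (h : ∀ g, φ g = 1 → α g = g) : K ≃* K where
  toFun := indHom φ hφ α fun g hg => (congrArg φ (h g hg)).trans hg
  invFun := indHom φ hφ α.symm fun g hg => (congrArg φ (α.symm_apply_eq.2 (h g hg).symm)).trans hg
  left_inv y := by
    obtain ⟨g, rfl⟩ := hφ y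
    exact (congrArg _ (indHom_apply _ _ _ _ g)).trans ((indHom_apply _ _ _ _ _).trans (congrArg φ (α.symm_apply_apply g)))
  right_inv y := by
    obtain ⟨g, rfl⟩ := hφ y
    exact (congrArg _ (indHom_apply _ _ _ _ g)).trans ((indHom_apply _ _ _ _ _).trans (congrArg φ (α.apply_symm_apply g)))
  map_mul' := map_mul _

theorem indAut_apply (φ : G →* K) (hφ : Function.Surjective φ) (α : G ≃* G) (h : ∀ g, φ g = 1 → α g = g) (g : G) :
    indAut φ hφ α h (φ g) = φ (α g) :=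
  indHom_apply φ hφ (α : G →* G) (fun g hg => (congrArg φ (h g hg)).trans hg) g

/-- an automorphism that fixes `T` and the classes of the `n i` fixes the classes of all representatives -/
theorem rp_aut {I W Y : Type} [Fintype I] [DecidableEq I] [Group W] [Group Y] {M : CoxeterMatrix I}
    {cs : CoxeterSystem M W} {T : Subgroup Y} {n : I → Y} (hN : NSys M T n) (d : Y ≃* Y) (h1 : ∀ t ∈ T, d t = t)
    (h2 : ∀ i, (n i)⁻¹ * d (n i) ∈ T) (w : W) : ∀ g, Rp cs hN w g → g⁻¹ * d g ∈ T := by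
  induction w using cs.simple_induction_right with
  | one =>
    intro g hg
    rw [h1 g hg.mem_of_one, inv_mul_cancel]
    exact one_mem _
  | mul_simple_right w i ih =>
    intro g hg
    have hni := rp_simple cs hN i
    have hg' : Rp cs hN w (g * (n i)⁻¹) := by
      have := hg.mul hni.inv
      rwa [mul_inv_cancel_right] at this
    have h3 := (Subgroup.mem_normalizer_iff''.1 hni.mem_normalizer _).1 (ih _ hg')
    have h4 := mul_mem h3 (h2 i)
    rw [map_mul, map_inv] at h4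
    convert h4 using 1
    group

end Gen

variable {F : Type} [Field F] {k : ℕ}

/-- conjugation with `diag (c, 1)` -/
def d2f (c : Fˣ) (g : S2 F) : S2 F :=
  ⟨!![e00 g, c * e01 g; ((c⁻¹ : Fˣ) : F) * e10 g, e11 g], by
    rw [Matrix.det_fin_two_of]
    linear_combination det_eq g - e01 g * e10 g * c.mul_inv⟩

theorem d2f_d2f (c c' : Fˣ) (g : S2 F) : d2f c (d2f c' g) = d2f (c * c') g := by
  refine ext4 rfl ?_ ?_ rfl
  · show (c : F) * (c' * e01 g) = (c * c' : Fˣ) * e01 g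
    rw [Units.val_mul, mul_assoc]
  · show ((c⁻¹ : Fˣ) : F) * (((c'⁻¹ : Fˣ) : F) * e10 g) = (((c * c')⁻¹ : Fˣ) : F) * e10 g
    rw [mul_inv, Units.val_mul, mul_assoc]

theorem d2f_one (g : S2 F) : d2f 1 g = g := ext4 rfl (one_mul _) (one_mul _) rfl

/-- the diagonal automorphism of `SL₂(F)` -/
def d2 (c : Fˣ) : S2 F ≃* S2 F where
  toFun := d2f c
  invFun := d2f c⁻¹
  left_inv g := by rw [d2f_d2f, inv_mul_cancel, d2f_one]
  right_inv g := by rw [d2f_d2f, mul_inv_cancel, d2f_one]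
  map_mul' g h := by
    have h1 := c.mul_inv
    refine ext4 ?_ ?_ ?_ ?_
    · show e00 (g * h) = _
      rw [mul00, mul00]
      show _ = e00 g * e00 h + c * e01 g * (((c⁻¹ : Fˣ) : F) * e10 h)
      linear_combination (-(e01 g * e10 h)) * h1
    · show (c : F) * e01 (g * h) = _
      rw [mul01, mul01]
      show _ = e00 g * (c * e01 h) + c * e01 g * e11 h
      ring
    · show ((c⁻¹ : Fˣ) : F) * e10 (g * h) = _
      rw [mul10, mul10]
      show _ = ((c⁻¹ : Fˣ) : F) * e10 g * e00 h + e11 g * (((c⁻¹ : Fˣ) : F) * e10 h)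
      ring
    · show e11 (g * h) = _
      rw [mul11, mul11]
      show _ = ((c⁻¹ : Fˣ) : F) * e10 g * (c * e01 h) + e11 g * e11 h
      linear_combination (-(e10 g * e01 h)) * h1

theorem d2_00 (c : Fˣ) (g : S2 F) : e00 (d2 c g) = e00 g := rfl
theorem d2_01 (c : Fˣ) (g : S2 F) : e01 (d2 c g) = c * e01 g := rfl
theorem d2_10 (c : Fˣ) (g : S2 F) : e10 (d2 c g) = ((c⁻¹ : Fˣ) : F) * e10 g := rfl
theorem d2_11 (c : Fˣ) (g : S2 F) : e11 (d2 c g) = e11 g := rfl

theorem d2_x (c : Fˣ) (r : F) : d2 c (x r) = x (c * r) := ext4 rfl rfl (mul_zero _) rfl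

theorem d2_tor (c u : Fˣ) : d2 c (tor u) = tor u := ext4 rfl (mul_zero _) (mul_zero _) rfl

/-- the eigenvalues of the similitude -/
def ew (a : Fin k → Fˣ) (μ : Fˣ) (z : Fin k × Bool) : Fˣ := if z.2 then a z.1 else μ * (a z.1)⁻¹

/-- the diagonal similitude -/
def DD (a : Fin k → Fˣ) (μ : Fˣ) : (Fin k ⊕ Fin k → F) ≃ₗ[F] (Fin k ⊕ Fin k → F) :=
  LinearEquiv.piCongrRight fun j => LinearEquiv.smulOfUnit (Sum.elim (fun i => μ * (a i)⁻¹) a j)

variable (a a' : Fin k → Fˣ) (μ μ' : Fˣ)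

theorem DD_inl (v : Fin k ⊕ Fin k → F) (i : Fin k) : DD a μ v (Sum.inl i) = (μ * (a i)⁻¹ : Fˣ) * v (Sum.inl i) := rfl

theorem DD_inr (v : Fin k ⊕ Fin k → F) (i : Fin k) : DD a μ v (Sum.inr i) = (a i : F) * v (Sum.inr i) := rfl

theorem ev_DD : Ev (frame k F) (DD a μ) (ew a μ) := by
  rintro ⟨i, b⟩
  funext j
  cases b <;> rcases j with j | j
  · rw [DD_inl, frame_b_false, Pi.smul_apply, f, smul_eq_mul]
    by_cases h : j = i
    · rw [h]; rfl
    · rw [Pi.single_eq_of_ne (by simpa using h), mul_zero, mul_zero]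
  · rw [DD_inr, frame_b_false, Pi.smul_apply, f, Pi.single_eq_of_ne (by simp), mul_zero, smul_zero]
  · rw [DD_inl, frame_b_true, Pi.smul_apply, SpIdent.e, Pi.single_eq_of_ne (by simp), mul_zero, smul_zero]
  · rw [DD_inr, frame_b_true, Pi.smul_apply, SpIdent.e, smul_eq_mul]
    by_cases h : j = i
    · rw [h]; rfl
    · rw [Pi.single_eq_of_ne (by simpa using h), mul_zero, mul_zero]

theorem DD_sim (v w : Fin k ⊕ Fin k → F) : sympForm k F (DD a μ v) (DD a μ w) = μ * sympForm k F v w := by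
  rw [sympForm_eq_sum, sympForm_eq_sum, Finset.mul_sum]
  refine Finset.sum_congr rfl fun i _ => ?_
  rw [DD_inl, DD_inl, DD_inr, DD_inr, Units.val_mul]
  linear_combination (μ * (v (Sum.inr i) * w (Sum.inl i) - v (Sum.inl i) * w (Sum.inr i))) * (a i).mul_inv

theorem DD_b (v : Fin k ⊕ Fin k → F) (z : Fin k × Bool) :
    (form k F).h (DD a μ v) ((frame k F).b z) = μ * ((ew a μ z)⁻¹ : Fˣ) * (form k F).h v ((frame k F).b z) := by
  have h1 := DD_sim a μ v ((frame k F).b z)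
  rw [ev_DD, sympForm_smul_right] at h1
  rw [form_h, form_h]
  linear_combination ((ew a μ z)⁻¹ : Fˣ) * h1 - sympForm k F (DD a μ v) ((frame k F).b z) * (ew a μ z).inv_mul

theorem DD_conj_mem {g : (Fin k ⊕ Fin k → F) ≃ₗ[F] (Fin k ⊕ Fin k → F)} :
    g ∈ isos (form k F) ↔ DD a μ * g * (DD a μ)⁻¹ ∈ isos (form k F) := by
  have h1 : ∀ v w, sympForm k F ((DD a μ * g * (DD a μ)⁻¹) (DD a μ v)) ((DD a μ * g * (DD a μ)⁻¹) (DD a μ w)) =
      μ * sympForm k F (g v) (g w) := fun v w => by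
    rw [mul_apply', mul_apply', mul_apply', mul_apply', inv_apply_eq rfl, inv_apply_eq rfl, DD_sim]
  constructor
  · intro hg v w
    obtain ⟨v, rfl⟩ := (DD a μ).surjective v
    obtain ⟨w, rfl⟩ := (DD a μ).surjective w
    exact (h1 v w).trans (by rw [form_h, DD_sim]; exact congrArg _ (hg v w))
  · intro hg v w
    exact mul_left_cancel₀ μ.ne_zero ((h1 v w).symm.trans ((hg _ _).trans (DD_sim a μ v w)))

/-- conjugation with the similitude -/
def cjD : isos (form k F) ≃* isos (form k F) where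
  toFun g := ⟨DD a μ * g.1 * (DD a μ)⁻¹, (DD_conj_mem a μ).1 g.2⟩
  invFun g := ⟨(DD a μ)⁻¹ * g.1 * DD a μ, (DD_conj_mem a μ).2 (by
    rw [show DD a μ * ((DD a μ)⁻¹ * g.1 * DD a μ) * (DD a μ)⁻¹ = g.1 by group]; exact g.2)⟩
  left_inv g := Subtype.ext (by show (DD a μ)⁻¹ * (DD a μ * g.1 * (DD a μ)⁻¹) * DD a μ = g.1; group)
  right_inv g := Subtype.ext (by show DD a μ * ((DD a μ)⁻¹ * g.1 * DD a μ) * (DD a μ)⁻¹ = g.1; group)
  map_mul' g h := Subtype.ext (by
    show DD a μ * (g.1 * h.1) * (DD a μ)⁻¹ = DD a μ * g.1 * (DD a μ)⁻¹ * (DD a μ * h.1 * (DD a μ)⁻¹)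
    group)

theorem cjD_val (g : isos (form k F)) : (cjD a μ g).1 = DD a μ * g.1 * (DD a μ)⁻¹ := rfl

/-- **the diagonal automorphism** -/
noncomputable def del : PSp k F ≃* PSp k F :=
  indAut toPSp toPSp_surjective (cjD a μ) fun g hg => by
    obtain ⟨c, -, hc⟩ := exists_smul_of_toPSp_eq_one hg
    refine Subtype.ext (LinearEquiv.ext fun v => ?_)
    rw [cjD_val, mul_apply', mul_apply', hc, hc, map_smul, apply_inv]

theorem del_toPSp (g : isos (form k F)) : del a μ (toPSp g) = toPSp (cjD a μ g) := indAut_apply _ _ _ _ g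

theorem DD_X {y z : Fin k × Bool} (h : y.1 ≠ z.1) (t : F) :
    DD a μ * (frame k F).X y z t * (DD a μ)⁻¹ = (frame k F).X y z ((ew a μ y * ew a μ z * μ⁻¹ : Fˣ) * t) := by
  rw [mul_inv_eq_iff_eq_mul]
  refine LinearEquiv.ext fun v => ?_
  rw [mul_apply', mul_apply', X_apply _ h, X_apply _ h, DD_b, DD_b, map_sub, map_add, map_smul, map_smul, ev_DD, ev_DD]
  simp only [Frame.sc, form_σ, Units.val_mul, Units.val_inv_eq_inv_val]
  have := (ew a μ y).ne_zero
  have := (ew a μ z).ne_zero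
  have := μ.ne_zero
  match_scalars <;> field_simp

theorem DD_Z (z : Fin k × Bool) (c : F) :
    DD a μ * (frame k F).Z z (adm c) * (DD a μ)⁻¹ = (frame k F).Z z (adm ((ew a μ z * ew a μ z * μ⁻¹ : Fˣ) * c)) := by
  rw [mul_inv_eq_iff_eq_mul]
  refine LinearEquiv.ext fun v => ?_
  have h1 : ∀ c : F, (adm c : (frame k F).Adm).w = 0 := fun _ => rfl
  have h2 : ∀ c : F, (adm c : (frame k F).Adm).c = c := fun _ => rfl
  rw [mul_apply', mul_apply', Z_apply, Z_apply, DD_b, h1, h1, h2, h2, HForm.zero_right, HForm.zero_right, map_add, map_sub,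
    map_add, map_smul, map_smul, map_smul, ev_DD, map_zero]
  simp only [Units.val_mul, Units.val_inv_eq_inv_val]
  have := (ew a μ z).ne_zero
  have := μ.ne_zero
  match_scalars <;> field_simp
  ring

theorem DD_rg (y : Fin k → ℤ) {g : (Fin k ⊕ Fin k → F) ≃ₗ[F] (Fin k ⊕ Fin k → F)} (hg : g ∈ rg (frame k F) y) :
    DD a μ * g * (DD a μ)⁻¹ ∈ rg (frame k F) y := by
  have : rg (frame k F) y ≤ (rg (frame k F) y).comap (MulAut.conj (DD a μ)).toMonoidHom := by
    refine iSup_le ?_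
    rintro ⟨⟨b, c⟩, h1, h2⟩ u hu
    show DD a μ * u * (DD a μ)⁻¹ ∈ rg (frame k F) y
    replace hu : u ∈ PG (frame k F) b c := hu
    replace h1 : Ok b c := h1
    rw [rg_eq _ h1 h2]
    rcases h1 with h1 | rfl
    · rw [PG_ne _ h1] at hu ⊢
      obtain ⟨t, rfl⟩ := hu
      exact ⟨_, DD_X a μ h1 t⟩
    · rw [PG_self] at hu ⊢
      obtain ⟨q, rfl⟩ := hu
      rw [eq_adm q]
      exact ⟨_, DD_Z a μ _ _⟩
  exact this hg

/-- the root groups are invariant -/
theorem del_X (y : Fin k → ℤ) {u : PSp k F} (hu : u ∈ WittModel.X (KInstSp.model k F) y) :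
    del a μ u ∈ WittModel.X (KInstSp.model k F) y := by
  obtain ⟨g, hg, h, rfl⟩ := (WittModel.mem_X _).1 hu
  exact (WittModel.mem_X _).2 ⟨_, (cjD a μ ⟨g, hg⟩).2, DD_rg a μ y h, del_toPSp a μ ⟨g, hg⟩⟩

theorem del_Sup (S : Set (Fin k → ℤ)) {u : PSp k F} (hu : u ∈ RGD.Sup (WittModel.X (KInstSp.model k F)) S) :
    del a μ u ∈ RGD.Sup (WittModel.X (KInstSp.model k F)) S := by
  have : RGD.Sup (WittModel.X (KInstSp.model k F)) S ≤
      (RGD.Sup (WittModel.X (KInstSp.model k F)) S).comap (del a μ).toMonoidHom :=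
    iSup_le fun z v hv => RGD.le_Sup z.2 (del_X a μ _ hv)
  exact this hu

theorem del_UU {W : Type} [Group W] (cs : CoxeterSystem (CoxeterMatrix.B k) W) {u : PSp k F}
    (hu : u ∈ UU cs (isCartan k) (WittModel.X (KInstSp.model k F))) :
    del a μ u ∈ UU cs (isCartan k) (WittModel.X (KInstSp.model k F)) := del_Sup a μ _ hu

/-- the torus is fixed pointwise -/
theorem del_T : ∀ t ∈ WittModel.T (KInstSp.model k F), del a μ t = t := by
  rintro _ ⟨t, ht, rfl⟩
  obtain ⟨l, hl⟩ := exists_ev (show Mono (frame k F) t.1 id from ht.2)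
  refine (del_toPSp a μ t).trans (congrArg toPSp (Subtype.ext ?_))
  exact ev_ext (((ev_DD a μ).mul hl).mul (ev_DD a μ).inv) hl fun z => mul_inv_cancel_comm _ _

theorem del_n (i : Fin k) : (nS k F i)⁻¹ * del a μ (nS k F i) ∈ WittModel.T (KInstSp.model k F) := by
  set g : isos (form k F) := ⟨_, nn_mem WittU.amb_Sp (adm (1 : F)) i⟩
  have h1 : (nS k F i)⁻¹ * del a μ (nS k F i) = toPSp (g⁻¹ * cjD a μ g) := by
    rw [map_mul, map_inv, ← del_toPSp]
    rfl
  rw [h1]
  refine Subgroup.mem_map_of_mem _ (Subgroup.mem_subgroupOf.2 ⟨(g⁻¹ * cjD a μ g).2, ?_⟩)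
  have h2 := (((ev_DD a μ).conj' (mono_nn (p0 := adm 1) one_ne_zero i)).mul (ev_DD a μ).inv).mono
  rwa [mul_assoc, mul_assoc, ← mul_assoc (DD a μ)] at h2

theorem del_rp [Fintype F] (p : ℕ) [Fact p.Prime] [CharP F p] {W : Type} [Group W]
    (cs : CoxeterSystem (CoxeterMatrix.B k) W) {w : W} {g : PSp k F} (hg : Rp cs (rgdS k F p cs).nsys w g) :
    g⁻¹ * del a μ g ∈ WittModel.T (KInstSp.model k F) := rp_aut _ _ (del_T a μ) (del_n a μ) w g hg

/-- the action on the group of the plane `l` -/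
theorem del_Phi (l : Fin k) (s : S2 F) : del a μ (Phi l s) = Phi l (d2 (a l * a l * μ⁻¹) s) := by
  refine (del_toPSp a μ _).trans (congrArg toPSp (Subtype.ext ?_))
  rw [cjD_val, mul_inv_eq_iff_eq_mul]
  refine ext_b fun z => ?_
  have h1 : ew a μ (l, true) = a l := rfl
  have h2 : ew a μ (l, false) = μ * (a l)⁻¹ := rfl
  have := (a l).ne_zero
  have := μ.ne_zero
  rw [mul_apply', mul_apply', ev_DD, map_smul]
  by_cases h : z.1 = l
  · obtain ⟨j, b⟩ := z
    obtain rfl : j = l := h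
    cases b
    · rw [P0_f, P0_f, map_add, map_smul, map_smul, ev_DD, ev_DD, d2_01, d2_11, h1, h2]
      simp only [Units.val_mul, Units.val_inv_eq_inv_val]
      match_scalars <;> field_simp
    · rw [P0_e, P0_e, map_add, map_smul, map_smul, ev_DD, ev_DD, d2_00, d2_10, h1, h2]
      simp only [Units.val_mul, Units.val_inv_eq_inv_val]
      match_scalars <;> field_simp
  · rw [P0_ne l _ h, P0_ne l _ h, ev_DD]

/-- the elements of the short simple root groups -/
noncomputable def xs (i : Fin k) (t : F) : PSp k F := toPSp ⟨(frame k F).X (i, true) (nx i) t, (frame k F).isIso_X _ _ _⟩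

theorem mem_X_short {i : Fin k} (hi : (i : ℕ) + 1 < k) (u : PSp k F) :
    u ∈ WittModel.X (KInstSp.model k F) (sr i) ↔ ∃ t, u = xs i t := by
  rw [WittModel.mem_X, rg_sr, WittRoot.PG_ne _ (nx_ne hi)]
  exact ⟨fun ⟨_, _, ⟨s, rfl⟩, h⟩ => ⟨s, h⟩, fun ⟨s, h⟩ => ⟨_, _, ⟨s, rfl⟩, h⟩⟩

theorem xs_add (i : Fin k) (s t : F) : xs i (s + t) = xs i s * xs i t := by
  rw [xs, xs, xs, ← map_mul]
  exact congrArg toPSp (Subtype.ext ((frame k F).X_add _ _ _ _))

theorem xs_pow (i : Fin k) (s : F) (j : ℕ) : xs i s ^ j = xs i (j * s) := by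
  induction j with
  | zero =>
    rw [pow_zero, Nat.cast_zero, zero_mul, xs, ← map_one toPSp]
    exact congrArg toPSp (Subtype.ext ((frame k F).X_zero _ _).symm)
  | succ j ih => rw [pow_succ, ih, Nat.cast_succ, add_mul, one_mul, xs_add]

theorem del_short {i : Fin k} (hi : (i : ℕ) + 1 < k) (t : F) :
    del a μ (xs i t) = xs i ((a i * (a ⟨i + 1, hi⟩)⁻¹ : Fˣ) * t) := by
  refine (del_toPSp a μ _).trans (congrArg toPSp (Subtype.ext ((DD_X a μ (nx_ne hi) t).trans ?_)))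
  have h1 : ew a μ (nx i) = μ * (a ⟨i + 1, hi⟩)⁻¹ := by unfold nx; rw [dif_pos hi]; rfl
  have h2 : ew a μ (i, true) = a i := rfl
  rw [h1, h2, mul_assoc (a i), mul_inv_cancel_comm]

theorem DD_mul : DD a μ * DD a' μ' = DD (a * a') (μ * μ') :=
  ev_ext ((ev_DD a μ).mul (ev_DD a' μ')) (ev_DD _ _) fun z => by
    unfold ew
    split_ifs
    · rfl
    · rw [Pi.mul_apply, mul_inv, mul_mul_mul_comm]

theorem del_del (y : PSp k F) : del a μ (del a' μ' y) = del (a * a') (μ * μ') y := by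
  obtain ⟨g, rfl⟩ := toPSp_surjective y
  rw [del_toPSp, del_toPSp, del_toPSp]
  refine congrArg toPSp (Subtype.ext ?_)
  rw [cjD_val, cjD_val, cjD_val, ← DD_mul]
  group

/-- `μ` a square : the automorphism is the conjugation with an element of the torus -/
theorem del_inner (hμ : IsSquare μ) : ∃ t ∈ WittModel.T (KInstSp.model k F), ∀ y, del a μ y = t * y * t⁻¹ := by
  obtain ⟨ν, rfl⟩ := hμ
  have h1 : DD (fun i => a i * ν⁻¹) 1 ∈ isos (form k F) := fun v w => by
    rw [form_h, form_h, DD_sim, Units.val_one, one_mul]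
  have h2 : ∀ v, DD a (ν * ν) v = (ν : F) • DD (fun i => a i * ν⁻¹) 1 v := fun v => by
    have := ν.ne_zero
    funext j
    rcases j with j | j
    · have := (a j).ne_zero
      rw [Pi.smul_apply, DD_inl, DD_inl, smul_eq_mul]
      simp only [Units.val_mul, Units.val_inv_eq_inv_val, Units.val_one]
      field_simp
    · rw [Pi.smul_apply, DD_inr, DD_inr, smul_eq_mul]
      simp only [Units.val_mul, Units.val_inv_eq_inv_val]
      field_simp
  refine ⟨toPSp ⟨_, h1⟩, Subgroup.mem_map_of_mem _ (Subgroup.mem_subgroupOf.2 ⟨h1, (ev_DD _ _).mono⟩), fun y => ?_⟩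
  obtain ⟨g, rfl⟩ := toPSp_surjective y
  rw [del_toPSp, ← map_inv, ← map_mul, ← map_mul]
  refine congrArg toPSp (Subtype.ext ?_)
  show DD a (ν * ν) * g.1 * (DD a (ν * ν))⁻¹ = DD (fun i => a i * ν⁻¹) 1 * g.1 * (DD (fun i => a i * ν⁻¹) 1)⁻¹
  rw [mul_inv_eq_iff_eq_mul]
  refine LinearEquiv.ext fun v => ?_
  rw [mul_apply', mul_apply', mul_apply', mul_apply', h2, h2, map_smul, inv_apply_eq rfl, map_smul, map_smul]

/-- the square is inner -/
theorem del_sq : ∃ t ∈ WittModel.T (KInstSp.model k F), ∀ y, del a μ (del a μ y) = t * y * t⁻¹ := by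
  obtain ⟨t, h1, h2⟩ := del_inner (a * a) (μ * μ) ⟨μ, rfl⟩
  exact ⟨t, h1, fun y => by rw [del_del, h2]⟩

/-- `e_i ↦ c e_i`, `f_i ↦ f_i` -/
noncomputable def dK (k : ℕ) (c : Fˣ) : PSp k F ≃* PSp k F := del (fun _ => c) c

theorem dK_Phi (c : Fˣ) (l : Fin k) (s : S2 F) : dK k c (Phi l s) = Phi l (d2 c s) := by
  rw [dK, del_Phi, mul_inv_cancel_right]

theorem dK_short (c : Fˣ) {i : Fin k} (hi : (i : ℕ) + 1 < k) (t : F) : dK k c (xs i t) = xs i t := by
  rw [dK, del_short _ _ hi, mul_inv_cancel, Units.val_one, one_mul]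

/-- all simple roots have the value `c` -/
noncomputable def dR (k : ℕ) (c : Fˣ) : PSp k F ≃* PSp k F := del (fun i => c ^ (k - i)) c

theorem dR_Phi (c : Fˣ) {l : Fin k} (hl : ¬ (l : ℕ) + 1 < k) (s : S2 F) : dR k c (Phi l s) = Phi l (d2 c s) := by
  rw [dR, del_Phi, show k - l = 1 by have := l.2; omega, pow_one, mul_inv_cancel_right]

theorem dR_short (c : Fˣ) {i : Fin k} (hi : (i : ℕ) + 1 < k) (t : F) : dR k c (xs i t) = xs i (c * t) := by
  rw [dR, del_short _ _ hi, show k - i = k - (i + 1) + 1 by omega, pow_succ', mul_inv_cancel_right]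

/-- `dR` is the `j`-th power on the simple root groups -/
theorem dR_simple {c : Fˣ} {j : ℕ} (hc : (c : F) = j) (i : Fin k) {u : PSp k F}
    (hu : u ∈ WittModel.X (KInstSp.model k F) (sr i)) : dR k c u = u ^ j := by
  by_cases hi : (i : ℕ) + 1 < k
  · obtain ⟨t, rfl⟩ := (mem_X_short hi u).1 hu
    rw [dR_short c hi, xs_pow, hc]
  · obtain ⟨s, rfl⟩ := (mem_X_last hi u).1 hu
    rw [dR_Phi c hi, d2_x, ← map_pow, S2.x_pow, hc]

end Cfsg.Agent.ODD.C3
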