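import Cfsg.Agent.ODD.PS.C3Defs
import Cfsg.Agent.Nodes.Coroot

/-!
# ODD / GAL: the roots of `C_{m+1}` orthogonal to the long simple root (helper50)

`ks : KS`.
-/

set_option autoImplicit false
set_option linter.unusedSectionVars false

namespace Cfsg.Agent.ODD.C3

open CoxeterSystem Cfsg.Agent.ChevalleyStructure.CoxeterGeom Cfsg.Agent.Tits.Roots Cfsg.Agent.Tits.Core
  Cfsg.Agent.Nodes.StabComb Cfsg.Agent.Nodes.SubComb Cfsg.Agent.Nodes.Coroot Cfsg.Agent.Nodes.TypeC Cfsg.Agent.ODD.PS
  Cfsg.Agent.ODD.PS.C3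

namespace K

section gen

variable {I W : Type} [Fintype I] [DecidableEq I] [Group W] {M : CoxeterMatrix I} (cs : CoxeterSystem M W)
  {A : I → I → ℤ} (h : IsCartan M A)

omit cs in
theorem ps (i j : I) : pairing A i (sr j) = A i j := St.pr_sr i j

theorem rfl_eq [Finite W] {w w' : W} {i i' : I} (e : rep cs h w (sr i) = rep cs h w' (sr i')) :
    rfl' cs w i = rfl' cs w' i' :=
  rep_injective cs h (LinearMap.ext fun x => by rw [rep_rfl'_eq, rep_rfl'_eq, e])

end gen

section C

variable {n : ℕ} {W : Type} [Group W] (cs : CoxeterSystem (CoxeterMatrix.B n) W)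

/-- `ee` as a homomorphism -/
def eh : (Fin n → ℤ) →+ (Fin n → ℤ) := AddMonoidHom.mk' ee ee_add

/-- long roots -/
def Lg (a : Fin n → ℤ) : Prop := ∃ s, ee a = wt s + wt s

theorem Lg.act {a : Fin n → ℤ} (ha : Lg a) (w : W) : Lg (rep cs (isCartan n) w a) := by
  induction w using cs.simple_induction_left with
  | one => rwa [map_one]
  | mul_simple_left w i ih =>
    obtain ⟨s, e⟩ := ih
    exact ⟨_, by rw [rep_mul_apply, rep_simple, ee_refl_of e]⟩

theorem lg_refl (w : W) {i : Fin n} (hi : ¬ (i : ℕ) + 1 < n) {a : Fin n → ℤ} (ha : Lg a) :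
    rep cs (isCartan n) (w * cs.simple i * w⁻¹) a = a ∨ rep cs (isCartan n) (w * cs.simple i * w⁻¹) a = -a := by
  obtain ⟨s, e⟩ := ha.act cs w⁻¹
  have h1 := ee_refl_of (i := i) e
  rw [rep_mul_apply, rep_mul_apply, rep_simple]
  rw [sg, dif_neg hi] at h1
  split_ifs at h1
  · right
    rw [show (s.1, !s.2) = ng s from rfl, wt_ng, ← neg_add, ← e, ← ee_neg] at h1
    rw [ee_injective h1, map_neg, rep_apply_inv]
  · left
    rw [ee_injective (h1.trans e.symm), rep_apply_inv]

include cs in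
theorem eq_of_lg {f g : (Fin n → ℤ) →+ (Fin n → ℤ)} (H : ∀ a k, ee a = wt (k, true) + wt (k, true) → f a = g a)
    (a : Fin n → ℤ) : f a = g a := by
  choose x hx using fun k : Fin n => exists_long cs (k, true)
  have h1 : (2 : ℤ) • a = ∑ k, ee a k • x k := ee_injective (by
    rw [ee_smul]
    refine ((map_sum eh _ _).trans ?_).symm
    funext j
    simp only [map_zsmul, Finset.sum_apply, Pi.smul_apply, show ∀ k, eh (x k) = _ from hx, Pi.add_apply, wt_apply]
    rw [Finset.sum_eq_single j (fun k _ hk => by simp [hk.symm]) (by simp)]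
    simp [mul_comm])
  refine smul_right_injective _ (two_ne_zero (α := ℤ)) ?_
  show (2 : ℤ) • f a = (2 : ℤ) • g a
  rw [← map_zsmul, ← map_zsmul, h1, map_sum, map_sum]
  exact Finset.sum_congr rfl fun k _ => by rw [map_zsmul, map_zsmul, H _ k (hx k)]

theorem exists_neg : ∃ v : W, ∀ a, rep cs (isCartan n) v a = -a := by
  have := finite_W cs
  have key : ∀ S : Finset (Fin n), ∃ v : W, ∀ a k, ee a = wt (k, true) + wt (k, true) →
      rep cs (isCartan n) v a = if k ∈ S then -a else a := fun S => by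
    induction S using Finset.induction_on with
    | empty => exact ⟨1, fun a k _ => by simp⟩
    | insert j S hj ih =>
      obtain ⟨v, hv⟩ := ih
      obtain ⟨x, ⟨w, i, e⟩, hx⟩ := rt_of_ok (cs := cs) (a := (j, true)) (Or.inr rfl)
      refine ⟨v * rfl' cs w i, fun a k ha => ?_⟩
      by_cases hk : k = j
      · subst hk
        rw [ee_injective (ha.trans hx.symm), rep_mul_apply, rep_rfl'_eq, ← e, cpr_self _ _ ⟨w, i, e⟩, map_sub, map_zsmul,
          hv x k hx, if_neg hj, if_pos (Finset.mem_insert_self _ _)]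
        module
      · obtain ⟨s, hs⟩ := Lg.act cs ⟨_, ha⟩ (rfl' cs w i)
        have h1 := congrFun hs k
        rw [rep_rfl'_eq, ← e, sub_eq_add_neg, ee_add, ee_neg, ee_smul, ha, hx] at h1
        have h2 : s = (k, true) := by
          obtain ⟨s, t⟩ := s
          simp only [Pi.add_apply, Pi.neg_apply, Pi.smul_apply, wt_apply, hk, if_true, if_false] at h1
          split_ifs at h1 with h2 h3 <;> simp_all
        rw [rep_mul_apply, ee_injective (hs.trans (h2 ▸ ha.symm)), hv a k ha]
        simp [hk]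
  obtain ⟨v, hv⟩ := key Finset.univ
  exact ⟨v, eq_of_lg cs (f := (rep cs (isCartan n) v).toAddMonoidHom) (g := -AddMonoidHom.id _) fun a k ha => by
    simpa using hv a k ha⟩

/-- `1, …, 1, 2` -/
def dd (i : Fin n) : ℤ := if (i : ℕ) + 1 < n then 1 else 2

/-- roots to coroots -/
def th : (Fin n → ℤ) →+ (Fin n → ℤ) := AddMonoidHom.mk' (fun a i => dd i * a i) fun _ _ => funext fun _ => mul_add _ _ _

theorem th_sr (i : Fin n) : th (sr i) = dd i • sr i := by
  funext k
  show dd k * sr i k = dd i * sr i k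
  by_cases hk : k = i
  · rw [hk]
  · rw [sr_ne hk, mul_zero, mul_zero]

theorem rep_th (w : W) (a : Fin n → ℤ) : rep cs (isCartanT n) w (th a) = th (rep cs (isCartan n) w a) := by
  induction w using cs.simple_induction_left with
  | one => rw [map_one, map_one]; rfl
  | mul_simple_left w i ih =>
    rw [rep_mul_apply, rep_mul_apply, ih, rep_simple_eq, rep_simple_eq, map_sub, map_zsmul, th_sr, smul_smul]
    congr 2
    rw [pairing, pairing, Finset.sum_mul]
    refine Finset.sum_congr rfl fun k _ => ?_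
    have : A n k i * dd k = A n i k * dd i := by
      have := i.2
      have := k.2
      simp only [A_apply, dd, Fin.ext_iff]
      split_ifs <;> omega
    show A n k i * (dd k * _) = _
    rw [← mul_assoc, this]
    ring

theorem exists_neg' : ∃ v : W, (∀ a, rep cs (isCartan n) v a = -a) ∧ ∀ a, rep cs (isCartanT n) v a = -a := by
  obtain ⟨v, hv⟩ := exists_neg cs
  refine ⟨v, hv, ext_sr' (x := (rep cs (isCartanT n) v).toAddMonoidHom) (y := -AddMonoidHom.id _) (fun i => ?_) |>
    DFunLike.congr_fun⟩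
  have h1 := rep_th cs v (sr i)
  rw [hv, map_neg, th_sr, map_zsmul, ← smul_neg] at h1
  exact smul_right_injective _ (by rw [dd]; split_ifs <;> omega) h1

/-- the coordinate forms -/
def co (k : Fin n) : St.Fm (Fin n) := (Pi.evalAddMonoidHom _ k).comp eh

theorem co_mem (d : ℕ) : ∀ k : Fin n, (k : ℕ) + d + 1 = n → co k ∈ (St.wt (A n)).range := by
  have h0 : ∀ k : Fin n, St.pr (A n) k ∈ (St.wt (A n)).range := fun k => ⟨_, St.wt_sr k⟩
  induction d with
  | zero =>
    intro k hk
    convert h0 k using 1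
    refine AddMonoidHom.ext fun a => ?_
    rw [St.pr_apply, ← Cf_ee, Cf, dif_neg (by omega)]
    rfl
  | succ d ih =>
    intro k hk
    convert add_mem (h0 k) (ih ⟨k + 1, by omega⟩ (by simp only; omega)) using 1
    refine AddMonoidHom.ext fun a => ?_
    rw [AddMonoidHom.add_apply, St.pr_apply, ← Cf_ee, Cf, dif_pos (by omega)]
    exact (sub_add_cancel _ _).symm

theorem comp_th (z : St.Fm (Fin n)) : z.comp th ∈ (St.wt (A n)).range := by
  have : z.comp th = ∑ j, z (sr j) • ∑ k ∈ Finset.Iic j, co k := ext_sr' fun i => by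
    have h1 : ∀ j, (∑ k ∈ Finset.Iic j, co k) (sr i) = if j = i then dd i else 0 := fun j => by
      rw [AddMonoidHom.finsetSum_apply, Finset.sum_congr rfl fun k _ => show co k (sr i) = bt i k from
        congrFun (ee_sr i) k, sum_bt, dd]
      split_ifs <;> rfl
    rw [AddMonoidHom.comp_apply, th_sr, map_zsmul, AddMonoidHom.finsetSum_apply]
    simp only [AddMonoidHom.smul_apply, h1, smul_eq_mul, mul_ite, mul_zero, Finset.sum_ite_eq', Finset.mem_univ, if_true]
    exact mul_comm _ _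
  rw [this]
  exact sum_mem fun j _ => AddSubgroup.zsmul_mem _
    (sum_mem fun (k : Fin n) _ => co_mem (n - 1 - k) k (by have := k.2; omega)) _

theorem even_long (w : W) {i : Fin n} (hi : ¬ (i : ℕ) + 1 < n) (x : St.Fm (Fin n)) (y : Fin n → ℤ) :
    2 ∣ x (rep cs (isCartanT n) (w * cs.simple i * w⁻¹) y) - x y := by
  rw [St.rep_rf, map_sub, sub_sub_cancel_left, map_zsmul, smul_eq_mul, dvd_neg]
  refine Dvd.dvd.mul_right ?_ _
  rw [St.co, St.ac_apply, St.pr_apply, pairing]
  refine Finset.dvd_sum fun k _ => Dvd.dvd.mul_right ?_ _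
  have := i.2
  have := k.2
  simp only [A_apply, Fin.ext_iff]
  split_ifs <;> omega

end C

section sub

variable {m : ℕ} {W W' : Type} [Group W] [Group W'] (cs : CoxeterSystem (CoxeterMatrix.B (m + 1)) W)
  (cs' : CoxeterSystem (CoxeterMatrix.B m) W')

theorem bC_self (j : Fin m) : 0 < bC m j j.castSucc := by
  rw [bC]
  split_ifs <;> simp [sr_self, sr_ne (Fin.castSucc_ne_last j)]

theorem bC_ne (j : Fin m) {k : Fin (m + 1)} (h1 : k ≠ j.castSucc) (h2 : k ≠ Fin.last m) : bC m j k = 0 := by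
  rw [bC]
  split_ifs <;> simp [sr_ne h1, sr_ne h2]

theorem sys : SubSys cs (isCartan (m + 1)) (A m) (bC m) (wC cs) (iC m) where
  eq j := by
    have := j.2
    rw [bC, wC, iC]
    split_ifs
    · rw [map_one, Module.End.one_apply]
    · rw [rep_simple_eq, ps, A_apply, if_neg (Fin.castSucc_ne_last j), if_pos (by simp; omega), if_neg (by simp)]
      module
  cartan j k := by
    have := j.2
    have := k.2
    rw [bC, wC, iC]
    split_ifs <;>
      simp only [inv_one, map_one, Module.End.one_apply, inv_simple, rep_simple_eq, sub_eq_add_neg, ← neg_smul,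
        pairing_add, pairing_smul, ps, A_apply, Fin.ext_iff, Fin.val_castSucc, Fin.val_last] <;>
      split_ifs <;> omega
  indep c hc := by
    funext j
    have h1 := congrFun hc j.castSucc
    rw [iota_apply, Finset.sum_apply, Finset.sum_eq_single j (fun k _ hk => by
      rw [Pi.smul_apply, bC_ne k (fun e => hk (Fin.castSucc_injective _ e).symm) (Fin.castSucc_ne_last j), smul_zero])
      (by simp)] at h1
    exact (mul_eq_zero.1 h1).resolve_right (bC_self j).ne'

theorem ee_bC (j : Fin m) : (∀ k : Fin m, ee (bC m j) k.castSucc = bt j k) ∧ ee (bC m j) (Fin.last m) = 0 := by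
  have := j.2
  refine ⟨fun k => ?_, ?_⟩
  · have := k.2
    rw [bC]
    split_ifs <;>
      simp only [ee_add, ee_smul, ee_sr, Pi.add_apply, Pi.smul_apply, smul_eq_mul, bt_apply, Fin.val_castSucc,
        Fin.val_last] <;> split_ifs <;> omega
  · rw [bC]
    split_ifs <;>
      simp only [ee_add, ee_smul, ee_sr, Pi.add_apply, Pi.smul_apply, smul_eq_mul, bt_apply, Fin.val_castSucc,
        Fin.val_last] <;> split_ifs <;> omega

theorem ee_iota (c : Fin m → ℤ) :
    (∀ k : Fin m, ee (iota (bC m) c) k.castSucc = ee c k) ∧ ee (iota (bC m) c) (Fin.last m) = 0 := by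
  have h1 : ee (iota (bC m) c) = ∑ j, c j • ee (bC m j) := by
    rw [iota_apply]
    exact (map_sum eh _ _).trans (Finset.sum_congr rfl fun j _ => ee_smul _ _)
  rw [h1]
  simp only [Finset.sum_apply, Pi.smul_apply, (ee_bC _).1, (ee_bC _).2, smul_zero, Finset.sum_const_zero, and_true]
  intro k
  rw [ee, Finset.sum_apply]
  rfl

theorem exists_iota {a : Fin (m + 1) → ℤ} (ha : IsRoot cs (isCartan (m + 1)) a) (h0 : 3 ∣ ee a (Fin.last m)) :
    ∃ c, IsRoot cs' (isCartan m) c ∧ iota (bC m) c = a := by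
  obtain ⟨⟨x, s⟩, ⟨y, t⟩, ok, e⟩ := exists_of_isRoot cs ha
  have h1 : x ≠ Fin.last m ∧ y ≠ Fin.last m := by
    rw [e, Pi.add_apply, wt_apply, wt_apply] at h0
    rcases ok with h | h
    · constructor <;> rintro rfl <;> cases s <;> cases t <;> simp_all [eq_comm]
    · obtain ⟨rfl, rfl⟩ := Prod.mk.inj h
      rw [and_self]
      rintro rfl
      cases s <;> simp at h0
  obtain ⟨x, rfl⟩ := Fin.exists_castSucc_eq.2 h1.1
  obtain ⟨y, rfl⟩ := Fin.exists_castSucc_eq.2 h1.2
  obtain ⟨c, hc, e'⟩ := rt_of_ok (cs := cs') (a := (x, s)) (b := (y, t)) (ok.imp (fun h e => h (congrArg Fin.castSucc e)) fun h => by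
    simpa using h)
  refine ⟨c, hc, ee_injective (funext fun k => ?_)⟩
  induction k using Fin.lastCases with
  | last => simp [(ee_iota c).2, e, wt_apply, h1.1.symm, h1.2.symm]
  | cast k => simp [(ee_iota c).1, e, e', wt_apply]

theorem fn_last (j : Fin m) : fn cs (isCartan (m + 1)) (wC cs j) (iC m j) (sr (Fin.last m)) = 0 := by
  have := j.2
  rw [fn_apply, wC, iC]
  split_ifs <;>
    simp only [inv_one, map_one, Module.End.one_apply, inv_simple, rep_simple_eq, sub_eq_add_neg, ← neg_smul,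
      pairing_add, pairing_smul, ps, A_apply, Fin.ext_iff, Fin.val_castSucc, Fin.val_last] <;>
    split_ifs <;> omega

theorem fix (j : Fin m) :
    rep cs (isCartan (m + 1)) (rfl' cs (wC cs j) (iC m j)) (sr (Fin.last m)) = sr (Fin.last m) := by
  rw [rep_rfl', rf_apply, fn_last, zero_smul, sub_zero]

theorem phi_conj (u : W') (j : Fin m) : (sys cs).phi cs' (isCartan m) (u * cs'.simple j * u⁻¹) =
    rfl' cs ((sys cs).phi cs' (isCartan m) u * wC cs j) (iC m j) := by
  rw [map_mul, map_mul, map_inv, SubSys.phi_simple, rfl', rfl']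
  group

theorem stab (v : W) (hv : rep cs (isCartan (m + 1)) v (sr (Fin.last m)) = sr (Fin.last m)) :
    v ∈ ((sys cs).phi cs' (isCartan m)).range := by
  have := finite_W cs
  refine St.mem_of_wt cs (isCartan (m + 1)) (x := St.pr (A (m + 1)) (Fin.last m)) (m := 3) (β := 0) (by norm_num)
    (fun w i h => ?_) ?_
  · rw [St.pr_apply, ← Cf_ee, Cf, dif_neg (by simp)] at h
    obtain ⟨c, ⟨u, j, rfl⟩, e⟩ := exists_iota cs cs' ⟨w, i, rfl⟩ h
    refine ⟨u * cs'.simple j * u⁻¹, (phi_conj cs cs' u j).trans (rfl_eq cs (isCartan (m + 1)) ?_)⟩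
    rw [rep_mul_apply, ← (sys cs).eq, ← iota_sr (bC m), SubSys.rep_phi, e]
  · rw [map_zero, smul_zero, add_zero]
    refine AddMonoidHom.ext fun a => ?_
    rw [St.ac_apply, St.pr_apply, St.pr_apply, ← cpr_sr cs (isCartan (m + 1)), ← cpr_sr cs (isCartan (m + 1))]
    conv_lhs => rw [← hv]
    exact cpr_rep _ _ _ _ (isRoot_sr _ _ _)

theorem inv (j : Fin m) (γ : Fin (m + 1) → ℤ) (hr : IsRoot cs (isCartan (m + 1)) γ) (h0 : 0 ≤ γ)
    (h1 : rep cs (isCartan (m + 1)) (rfl' cs (wC cs j) (iC m j)) γ ≤ 0) :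
    ∃ a c : ℤ, 0 < a ∧ a • γ = bC m j + c • sr (Fin.last m) := by
  have hj := j.2
  have h2 : γ = γ j.castSucc • sr j.castSucc + γ (Fin.last m) • sr (Fin.last m) := funext fun k => by
    by_cases k1 : k = j.castSucc
    · simp [k1, sr_self, sr_ne (Fin.castSucc_ne_last j)]
    by_cases k2 : k = Fin.last m
    · simp [k2, sr_self, sr_ne (Fin.castSucc_ne_last j).symm]
    have := h1 k
    rw [rep_rfl', rf_apply, ← (sys cs).eq, Pi.sub_apply, Pi.smul_apply, bC_ne j k1 k2, smul_zero, sub_zero] at this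
    simp [sr_ne k1, sr_ne k2, le_antisymm this (h0 k)]
  have h3 : γ j.castSucc ≠ 0 := fun h => by
    rw [h, zero_smul, zero_add] at h2
    rw [h2, map_zsmul, fix, ← h2] at h1
    exact hr.not_pos_neg h0 h1
  have h4 : (0 : ℤ) ≤ γ j.castSucc := h0 _
  by_cases hs : (j : ℕ) + 1 < m
  · refine ⟨1, 0, one_pos, ?_⟩
    rw [one_smul, zero_smul, add_zero, bC, if_pos hs]
    by_contra h5
    rw [wC, iC, if_pos hs, if_pos hs, rfl', one_mul, inv_one, mul_one] at h1
    exact (hr.act _).not_pos_neg (hr.simple_nonneg h0 _ h5) h1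
  · obtain ⟨x, y, -, e⟩ := exists_of_isRoot cs hr
    have h5 := congrFun e j.castSucc
    rw [h2, ee_add, ee_smul, ee_smul, ee_sr, ee_sr] at h5
    simp only [Pi.add_apply, Pi.smul_apply, smul_eq_mul, bt_apply, Fin.val_castSucc, Fin.val_last, wt_apply] at h5
    have h6 : γ j.castSucc = 1 ∨ γ j.castSucc = 2 := by split_ifs at h5 <;> omega
    rw [bC, if_neg hs]
    rcases h6 with h6 | h6 <;> rw [h6] at h2
    · exact ⟨2, 2 * γ (Fin.last m) - 1, two_pos, by rw [congrArg (_ • ·) h2]; module⟩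
    · exact ⟨1, γ (Fin.last m) - 1, one_pos, by rw [congrArg (_ • ·) h2]; module⟩

/-- the embedding of the coroot lattices -/
def bT (m : ℕ) (j : Fin m) : Fin (m + 1) → ℤ :=
  if (j : ℕ) + 1 < m then sr j.castSucc else sr j.castSucc + sr (Fin.last m)

theorem th_iota (c : Fin m → ℤ) : th (iota (bC m) c) = iota (bT m) (th c) :=
  DFunLike.congr_fun (ext_sr' (x := th.comp (iota (bC m)).toAddMonoidHom) (y := (iota (bT m)).toAddMonoidHom.comp th)
    fun j => by
      show th (iota (bC m) (sr j)) = iota (bT m) (th (sr j))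
      have := j.2
      rw [th_sr, map_zsmul, iota_sr, iota_sr, bC, bT, dd]
      split_ifs
      · rw [th_sr, dd, if_pos (by simp)]
      · rw [map_add, map_zsmul, th_sr, th_sr, dd, dd, if_pos (by simp), if_neg (by simp)]
        module) c

theorem sq (x : St.Fm (Fin (m + 1))) (v : W')
    (hv : ∀ a, 2 ∣ x (rep cs (isCartanT (m + 1)) ((sys cs).phi cs' (isCartan m) v) a) - x a) :
    v * v ∈ Subgroup.closure {r | ∃ (u : W') (j : Fin m), wC cs j = 1 ∧ r = u * cs'.simple j * u⁻¹ ∧
      2 ∣ x (rep cs (isCartanT (m + 1)) ((sys cs).phi cs' (isCartan m) u) (sr (iC m j)))} := by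
  have := finite_W cs'
  set φ := (sys cs).phi cs' (isCartan m) with hφ
  set H := Subgroup.closure {r | ∃ (u : W') (j : Fin m), wC cs j = 1 ∧ r = u * cs'.simple j * u⁻¹ ∧
    2 ∣ x (rep cs (isCartanT (m + 1)) (φ u) (sr (iC m j)))} with hH
  let E : Set W' := {e | (∀ a, Lg a → rep cs' (isCartan m) e a = a ∨ rep cs' (isCartan m) e a = -a) ∧
    ∀ y, 2 ∣ x (rep cs (isCartanT (m + 1)) (φ e) y) - x y}
  have e1 : ∀ e ∈ E, ∀ d ∈ H, e * d * e⁻¹ ∈ H := fun e he d hd => by
    refine (Subgroup.closure_le (H.comap (MulAut.conj e).toMonoidHom)).2 ?_ hd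
    rintro _ ⟨u, j, h1, rfl, h2⟩
    refine Subgroup.subset_closure ⟨e * u, j, h1, ?_, ?_⟩
    · show e * _ * e⁻¹ = _
      group
    · rw [map_mul, rep_mul_apply]
      exact (dvd_sub_left h2).1 (he.2 _)
  have e2 : ∀ e ∈ E, e * e = 1 := fun e he => eq_one_of_fix cs' (isCartan m) _ fun k =>
    eq_of_lg cs' (f := (rep cs' (isCartan m) (e * e)).toAddMonoidHom) (g := AddMonoidHom.id _) (fun a k ha => by
      show rep cs' (isCartan m) (e * e) a = a
      rcases he.1 a ⟨_, ha⟩ with h | h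
      · rw [rep_mul_apply, h, h]
      · rw [rep_mul_apply, h, map_neg, h, neg_neg]) _
  have e3 : ∀ e ∈ E, ∀ e' ∈ E, e * e' ∈ E := fun e he e' he' => ⟨fun a ha => by
    rw [rep_mul_apply]
    rcases he'.1 a ha with h | h <;> rcases he.1 a ha with h' | h' <;> simp [h, h'], fun y => by
      rw [map_mul, rep_mul_apply]
      have := dvd_add (he.2 (rep cs (isCartanT (m + 1)) (φ e') y)) (he'.2 y)
      rwa [sub_add_sub_cancel] at this⟩
  have e4 : (1 : W') ∈ E := ⟨fun a _ => Or.inl (by simp), fun y => by simp⟩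
  let P : Subgroup W' :=
    { carrier := {v | ∃ d ∈ H, ∃ e ∈ E, v = d * e}
      one_mem' := ⟨1, one_mem _, 1, e4, (one_mul 1).symm⟩
      mul_mem' := by
        rintro _ _ ⟨d, hd, e, he, rfl⟩ ⟨d', hd', e', he', rfl⟩
        exact ⟨d * (e * d' * e⁻¹), mul_mem hd (e1 e he d' hd'), e * e', e3 e he e' he', by group⟩
      inv_mem' := by
        rintro _ ⟨d, hd, e, he, rfl⟩
        refine ⟨e * d⁻¹ * e⁻¹, e1 e he _ (inv_mem hd), e, he, ?_⟩
        rw [mul_inv_rev, inv_eq_of_mul_eq_one_right (e2 e he), mul_assoc, e2 e he, mul_one] }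
  have key : ∀ (u : W') c, th (iota (bC m) (rep cs' (isCartan m) u c)) =
      rep cs (isCartanT (m + 1)) (φ u) (th (iota (bC m) c)) := fun u c => by rw [rep_th, SubSys.rep_phi]
  obtain ⟨z, hz⟩ := St.exists_div cs (isCartanT (m + 1)) two_pos hv
  obtain ⟨β, hβ⟩ := comp_th (z.comp (iota (bT m)).toAddMonoidHom)
  obtain ⟨d, hd, e, he, rfl⟩ : v ∈ P := by
    refine St.mem_of_wt cs' (isCartan m) (x := x.comp (th.comp (iota (bC m)).toAddMonoidHom)) (m := 2) (β := β) two_pos
      (fun u j h => ?_) (AddMonoidHom.ext fun a => ?_)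
    · by_cases hs : (j : ℕ) + 1 < m
      · refine ⟨_, Subgroup.subset_closure ⟨u, j, if_pos hs, rfl, ?_⟩, 1, e4, (mul_one _).symm⟩
        change 2 ∣ x (th (iota (bC m) (rep cs' (isCartan m) u (sr j)))) at h
        rwa [key, iota_sr, bC, if_pos hs, th_sr, dd, if_pos (by simp), one_smul, ← if_pos (c := (j : ℕ) + 1 < m) hs
          (t := j.castSucc) (e := Fin.last m)] at h
      · refine ⟨1, one_mem _, _, ⟨fun a => lg_refl cs' u hs, fun y => ?_⟩, (one_mul _).symm⟩
        rw [hφ, phi_conj, iC, if_neg hs]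
        exact even_long cs _ (by simp) x y
    · rw [hβ]
      show x (th (iota (bC m) (rep cs' (isCartan m) v a))) = x (th (iota (bC m) a)) + 2 • z (iota (bT m) (th a))
      rw [key, ← St.ac_apply, hz, ← th_iota]
      rfl
  have := mul_mem hd (e1 e he d hd)
  rwa [inv_eq_of_mul_eq_one_right (e2 e he), ← mul_assoc, ← mul_assoc, mul_assoc (d * e)] at this

end sub

end K

theorem ks : KS := fun m W W' _ _ cs cs' =>
  { sys := K.sys cs
    pos := fun j => by
      rw [bC]
      split_ifs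
      exacts [sr_nonneg _, add_nonneg (smul_nonneg zero_le_two (sr_nonneg _)) (sr_nonneg _)]
    fix := K.fix cs
    stab := K.stab cs cs'
    par := fun j => by
      have h1 : ∀ k ∈ ({j.castSucc, Fin.last m} : Set (Fin (m + 1))), cs.simple k ∈ WJ cs {j.castSucc, Fin.last m} :=
        fun k hk => Subgroup.subset_closure ⟨k, hk, rfl⟩
      refine ⟨{j.castSucc, Fin.last m}, Or.inr rfl, ?_, fun k hk => ?_⟩
      · rw [rfl', wC, iC]
        split_ifs
        · simpa using h1 _ (Or.inl rfl)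
        · exact mul_mem (mul_mem (h1 _ (Or.inl rfl)) (h1 _ (Or.inr rfl))) (inv_mem (h1 _ (Or.inl rfl)))
      · by_contra h
        exact (K.bC_self k).ne' (hk.2 _ (by simp [h, Fin.castSucc_ne_last]))
    inv := K.inv cs
    neg := K.exists_neg' cs
    sq := K.sq cs cs' }

end Cfsg.Agent.ODD.C3
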