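import Cfsg.Agent.ODD.C3.MPhi
import Cfsg.Agent.H905.MdK

/-!
# ODD / GAL: the data of `PSp_{2m+2}(F)` in the Witt model (helper1)

**`ms : MS`**; `sp_Phi` is the explicit form: `Φ = Phi (Fin.last m)`, `gg = gS γ`.
-/

set_option autoImplicit false
set_option linter.unusedSectionVars false

open Cfsg

namespace Cfsg.Agent.ODD.C3

open CoxeterSystem Cfsg.Agent.ChevalleyStructure.CoxeterGeom Cfsg.Agent.Tits.Roots Cfsg.Agent.Nodes.Reps
  Cfsg.Agent.Nodes.BNOf Cfsg.Agent.H684.OQ Cfsg.Agent.H381.OQ Cfsg.Agent.H69.OQ Cfsg.Agent.ODD.PS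
open Cfsg.Agent.ClassicalGeometry.SympBasic Cfsg.Agent.H670 Cfsg.Agent.H670.SL2 Cfsg.Agent.ODD.PS.C3
open Cfsg.Agent.TitsThree Cfsg.Agent.TitsThree.Siegel Cfsg.Agent.TitsThree.WittFrame Cfsg.Agent.TitsThree.WittWeyl
  Cfsg.Agent.TitsThree.SpIdent Cfsg.Agent.TitsThree.FrameCN
open Cfsg.Agent.Nodes Cfsg.Agent.Nodes.WittRoot Cfsg.Agent.ODD.PW
open Cfsg.Agent.Nodes.TypeC Cfsg.Agent.Nodes.WittRGD

section Gen

variable {F : Type} [Field F] {V : Type} [AddCommGroup V] [Module F V] {H : HForm F V} {n : ℕ}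
  {Fr : Frame H (Fin n)} {K0 : Type} [Group K0] [Finite K0] (M : Model Fr K0)

/-- the last node (as `PW.node_Z`, any rank) -/
theorem node_Z' {p : ℕ} {W : Type} [Group W] [Finite W] {cs : CoxeterSystem (CoxeterMatrix.B n) W}
    (hA : Amb Fr M.I) {p0 : Fr.Adm} (hp0 : p0.c ≠ 0) {i : Fin n} (hi : ¬ (i : ℕ) + 1 < n)
    {hmem : ∀ i, WittRGD.nn Fr p0 i ∈ M.I}
    (R : RGD cs (isCartan n) p (((Tor Fr M.I).subgroupOf M.I).map M.φ)
      (fun i => M.φ ⟨WittRGD.nn Fr p0 i, hmem i⟩) (WittModel.X M)) {g : V ≃ₗ[F] V} (hg : g ∈ Tor Fr M.I)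
    (hZ : ∀ q : Fr.Adm, q.c ≠ 0 → ∃ k : ℤ, dZ Fr (i, true) p0 q = g ^ k) (x : K0) (hx : x ∈ WittModel.X M (sr i))
    (hx1 : x ≠ 1) : tx R i x ∈ Subgroup.zpowers (M.φ ⟨g, hg.1⟩) := by
  have hnx : nx i = (i, true) := by unfold nx; rw [dif_neg hi]
  have hnn : WittRGD.nn Fr p0 i = nZ Fr (i, true) p0 := by unfold WittRGD.nn; rw [if_neg hi]
  have hX1 : WittRoot.rg Fr (sr i) = WittRoot.ZG Fr (i, true) := by rw [rg_sr, hnx, WittRoot.PG_self]
  have hmZ : ∀ q, M.φ ⟨Fr.Z (i, true) q, M.hZ _ _⟩ ∈ WittModel.X M (sr i) := fun q =>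
    WittModel.mem_X_of M _ (by rw [hX1]; exact ⟨q, rfl⟩)
  obtain ⟨u, hu, hux, rfl⟩ := (WittModel.mem_X M).1 hx
  rw [hX1] at hux
  obtain ⟨q, rfl⟩ := hux
  have hq : q.c ≠ 0 := fun h0 => by
    have h1 := q.ok
    rw [h0] at h1
    obtain rfl : q = 1 := Frame.Adm.ext (hA.ok_aniso _ h1) h0
    exact hx1 (by rw [show (⟨Fr.Z (i, true) 1, hu⟩ : M.I) = 1 from Subtype.ext (Fr.Z_one _), map_one])
  have h1 := nZ_conj_Z Fr (i, true) p0 hp0 q
  set r := Frame.Adm.smul (H.ε⁻¹ * Fr.η (i, true) * p0.c⁻¹) (WittWeyl.refl Fr p0 hp0 q)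
  have hs : H.ε⁻¹ * Fr.η (i, true) * p0.c⁻¹ ≠ 0 :=
    mul_ne_zero (mul_ne_zero (inv_ne_zero H.ε_ne) (Fr.η_ne _)) (inv_ne_zero hp0)
  have hr : r.c ≠ 0 := mul_ne_zero (mul_ne_zero hs ((map_ne_zero H.σ).2 hs)) hq
  obtain ⟨k, hk⟩ := hZ (be Fr (i, true) r) (be_c _ hr)
  rw [(tx_unique R hx hx1 (mem_T (zpow_mem hg k)) (inv_mem (hmZ (be Fr (i, true) r)))
    (inv_mem (hmZ (Frame.Adm.smul (H.ε * (be Fr (i, true) r).c * (H.σ (be Fr (i, true) r).c)⁻¹) (be Fr (i, true) r))))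
    (by
      rw [← map_inv, ← map_inv, ← map_inv, ← map_mul, ← map_mul, ← map_mul, ← map_mul, ← map_mul]
      refine congrArg M.φ (Subtype.ext ?_)
      show WittRGD.nn Fr p0 i * Fr.Z (i, true) q * (WittRGD.nn Fr p0 i)⁻¹ =
        (Fr.Z (i, true) _)⁻¹ * g ^ k * WittRGD.nn Fr p0 i * (Fr.Z (i, true) _)⁻¹
      have e2 : nZ Fr (i, true) (be Fr (i, true) r) = Fr.Z (i, true) _ *
        Fr.Z (neg (i, true)) (al Fr (i, true) (be Fr (i, true) r)) * Fr.Z (i, true) _ := rfl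
      rw [hnn, h1, ← hk, dZ, e2, al_be _ hr]
      group)).1]
  exact ⟨k, (map_zpow M.φ _ k).symm⟩

end Gen

variable {F : Type} [Field F] {k : ℕ}

theorem ev_ext {s t : (Fin k ⊕ Fin k → F) ≃ₗ[F] (Fin k ⊕ Fin k → F)} {l m : Fin k × Bool → Fˣ}
    (hs : Ev (frame k F) s l) (ht : Ev (frame k F) t m) (e : ∀ z, l z = m z) : s = t :=
  ext_b fun z => by rw [hs, ht, e]

theorem Cf_X {i : Fin k} (hi : (i : ℕ) + 1 < k) (z : Fin k × Bool) :
    Cf i (wt z) = PW.e (i, true) z + PW.e (nx i) z := Cf_eC hi z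

/-- the coroot elements -/
noncomputable def G0 (γ : Fˣ) (i : Fin k) : (Fin k ⊕ Fin k → F) ≃ₗ[F] (Fin k ⊕ Fin k → F) :=
  if (i : ℕ) + 1 < k then hX (frame k F) (i, true) (nx i) γ else (P0 i (tor γ)).1

theorem ev_G0 (γ : Fˣ) (i : Fin k) : Ev (frame k F) (G0 γ i) fun z => γ ^ Cf i (wt z) := by
  unfold G0
  split_ifs with hi
  · exact (ev_hX (fun _ => rfl) (nx_ne hi) γ).congr fun z => by rw [Cf_eC hi]
  · exact (ev_P0_tor i γ).congr fun z => by rw [Cf_eC' hi]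

theorem G0_tor (γ : Fˣ) (i : Fin k) : G0 γ i ∈ Tor (frame k F) (isos (form k F)) := by
  refine ⟨?_, (ev_G0 γ i).mono⟩
  unfold G0
  split_ifs with hi
  · exact (hX_tor WittU.amb_Sp (nx_ne hi) γ).1
  · exact (P0 i (tor γ)).2

/-- the coroot elements of `PSp` -/
noncomputable def gS (γ : Fˣ) (i : Fin k) : PSp k F := toPSp ⟨G0 γ i, (G0_tor γ i).1⟩

theorem nn_conj_G0 (γ : Fˣ) (i j : Fin k) :
    WittRGD.nn (frame k F) (adm 1) i * G0 γ j * (WittRGD.nn (frame k F) (adm 1) i)⁻¹ = G0 γ j * G0 γ i ^ (-A k j i) := by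
  refine ev_ext ((ev_G0 γ j).conj (mono_nn (p0 := adm 1) one_ne_zero i) (sg_sg i)) ((ev_G0 γ j).mul ((ev_G0 γ i).zpow _))
    fun z => ?_
  rw [Cf_sgC, ← zpow_mul, ← zpow_add]
  congr 1
  ring

theorem comm_TS : ∀ a ∈ WittModel.T (KInstSp.model k F), ∀ b ∈ WittModel.T (KInstSp.model k F), a * b = b * a := by
  rintro _ ⟨s, hs, rfl⟩ _ ⟨t, ht, rfl⟩
  obtain ⟨l, hl⟩ := exists_ev (show Mono (frame k F) s.1 id from hs.2)
  obtain ⟨m, hm⟩ := exists_ev (show Mono (frame k F) t.1 id from ht.2)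
  rw [← map_mul, ← map_mul]
  exact congrArg _ (Subtype.ext (ev_ext (hl.mul hm) (hm.mul hl) fun z => mul_comm _ _))

/-- the torus is generated by the coroot elements -/
theorem T_le_closure {γ : Fˣ} (hγ : ∀ u, u ∈ Subgroup.zpowers γ) :
    WittModel.T (KInstSp.model k F) ≤ Subgroup.closure (Set.range (gS (k := k) γ)) := by
  set K := Subgroup.closure (Set.range (gS (k := k) γ))
  have h1 : ∀ (i : Fin k) (u : Fˣ), ∃ d : isos (form k F), Ev (frame k F) d.1 (fun z => u ^ Cf i (wt z)) ∧ toPSp d ∈ K := by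
    intro i u
    obtain ⟨j, rfl⟩ := hγ u
    refine ⟨⟨G0 γ i, (G0_tor γ i).1⟩ ^ j, ((ev_G0 γ i).zpow j).congr fun z => zpow_comm _ _ _, ?_⟩
    rw [map_zpow]
    exact zpow_mem (Subgroup.subset_closure (Set.mem_range_self (f := gS γ) i)) j
  have h2 : ∀ (c : ℕ) (i : Fin k), (i : ℕ) + c + 1 = k → ∀ u : Fˣ,
      ∃ d : isos (form k F), Ev (frame k F) d.1 (fun z => u ^ PW.e (i, true) z) ∧ toPSp d ∈ K := by
    intro c
    induction c with
    | zero =>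
      intro i hi u
      obtain ⟨d, h3, h4⟩ := h1 i u
      exact ⟨d, h3.congr fun z => by rw [Cf_eC' (by omega)], h4⟩
    | succ c ih =>
      intro i hi u
      have hi' : (i : ℕ) + 1 < k := by omega
      obtain ⟨d, h3, h4⟩ := h1 i u
      obtain ⟨d', h5, h6⟩ := ih ⟨i + 1, hi'⟩ (by simp only; omega) u
      refine ⟨d * d', (h3.mul h5).congr fun z => ?_, by rw [map_mul]; exact mul_mem h4 h6⟩
      have hnx : nx i = ng (⟨i + 1, hi'⟩, true) := by unfold nx; rw [dif_pos hi']; rfl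
      rw [Cf_eC hi', hnx, ng_e, ← zpow_add, neg_add_cancel_right]
  rintro _ ⟨t, ht, rfl⟩
  obtain ⟨l, hl⟩ := exists_ev (show Mono (frame k F) t.1 id from ht.2)
  have key : ∀ S : Finset (Fin k), ∃ d : isos (form k F),
      Ev (frame k F) d.1 (fun z => ∏ i ∈ S, l (i, true) ^ PW.e (i, true) z) ∧ toPSp d ∈ K := fun S => by
    induction S using Finset.induction_on with
    | empty => exact ⟨1, ev_one, by rw [map_one]; exact one_mem _⟩
    | insert i S hi ih =>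
      obtain ⟨d, h3, h4⟩ := ih
      obtain ⟨d', h5, h6⟩ := h2 (k - i - 1) i (by have := i.2; omega) (l (i, true))
      exact ⟨d' * d, (h5.mul h3).congr fun z => by rw [Finset.prod_insert hi], by rw [map_mul]; exact mul_mem h6 h4⟩
  obtain ⟨d, h3, h4⟩ := key Finset.univ
  have h5 : t = d := Subtype.ext (ev_ext hl h3 fun z => by
    rw [Finset.prod_eq_single z.1 (fun i _ hi => by rw [e_ne hi.symm, zpow_zero]) (fun h => absurd (Finset.mem_univ _) h)]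
    rcases eq_or_ng (a := z) (b := (z.1, true)) rfl with h8 | h8
    · rw [h8, e_self, zpow_one]
    · rw [h8, ng_fst, e_ng, e_self, hl.opp (fun _ => rfl) t.2, zpow_neg_one])
  rw [h5]
  exact h4

theorem mem_X_last {l : Fin k} (hl : ¬ (l : ℕ) + 1 < k) (u : PSp k F) :
    u ∈ WittModel.X (KInstSp.model k F) (sr l) ↔ ∃ s, u = Phi l (x s) := by
  have hnx : nx l = (l, true) := by unfold nx; rw [dif_neg hl]
  rw [WittModel.mem_X, rg_sr, hnx, PG_self]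
  constructor
  · rintro ⟨_, hg, ⟨q, rfl⟩, rfl⟩
    refine ⟨-q.c, congrArg toPSp (Subtype.ext ?_)⟩
    rw [P0_x, _root_.neg_neg, ← eq_adm]
  · rintro ⟨s, rfl⟩
    exact ⟨_, (P0 l (x s)).2, ⟨_, P0_x l s⟩, rfl⟩

theorem Phi_x_inj (l : Fin k) (s : F) (h : Phi l (x s) = 1) : s = 0 := by
  obtain ⟨a, -, ha⟩ := exists_smul_of_toPSp_eq_one h
  have h1 := pl_hf l (x s) (f k F l)
  rw [← P0_apply, ha, sympForm_smul_left, ff, fe', x00, x01] at h1
  linear_combination -h1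

theorem Phi_tor_mem (l : Fin k) (u : Fˣ) : Phi l (tor u) ∈ WittModel.T (KInstSp.model k F) :=
  Subgroup.mem_map_of_mem _ (Subgroup.mem_subgroupOf.2 ⟨(P0 l (tor u)).2, (ev_P0_tor l u).mono⟩)

theorem T_dec (l : Fin k) : ∀ t ∈ WittModel.T (KInstSp.model k F), ∃ u, t * (Phi l (tor u))⁻¹ ∈ CS (Phi l) := by
  rintro _ ⟨t, ht, rfl⟩
  change isos (form k F) at t
  obtain ⟨a, ha⟩ := exists_ev (show Mono (frame k F) t.1 id from ht.2)
  have h1 := ha.mul (ev_P0_tor l (a (l, true))).inv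
  refine ⟨a (l, true), ?_⟩
  have h2 : (KInstSp.model k F).φ t * (Phi l (tor (a (l, true))))⁻¹ = toPSp (t * (P0 l (tor (a (l, true))))⁻¹) := by
    rw [map_mul, map_inv]
    rfl
  rw [h2]
  refine mem_CS ((h1 _).trans ?_) ((h1 _).trans ?_)
  · simp only [e_self, zpow_one, mul_inv_cancel, Units.val_one, one_smul]
  · have h3 := ha.opp (fun _ => rfl) t.2 (l, true)
    have h4 := e_ng (l, true) (l, true)
    rw [show ng ((l, true) : Fin k × Bool) = (l, false) from rfl] at h3 h4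
    simp only [h3, h4, e_self, zpow_neg_one, mul_inv_cancel, Units.val_one, one_smul]

variable [Fintype F] (p : ℕ) [Fact p.Prime] [CharP F p] {W : Type} [Group W] [Finite W]

theorem rp_wel (cs : CoxeterSystem (CoxeterMatrix.B k) W) {l : Fin k} (hl : ¬ (l : ℕ) + 1 < k) :
    Rp cs (rgdS k F p cs).nsys (cs.simple l) (Phi l wel) := by
  have h1 := tor_of_mono WittU.amb_Sp (P0 l wel).2 (nn_mem WittU.amb_Sp (adm (1 : F)) l) (mono_P0_wel hl)
    (mono_nn (p0 := adm 1) one_ne_zero l)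
  have h2 := (rp_of_mem (cs := cs) (hN := (rgdS k F p cs).nsys) (mem_T (φ := toPSp) h1)).mul
    (rp_simple cs (rgdS k F p cs).nsys l)
  rw [one_mul] at h2
  convert h2 using 1
  rw [nS, Phi_apply]
  erw [← map_mul]
  exact congrArg toPSp (Subtype.ext (inv_mul_cancel_right _ _).symm)

theorem cor_gS [Finite (PSp k F)] (cs : CoxeterSystem (CoxeterMatrix.B k) W) {γ : Fˣ} (hγ : ∀ u, u ∈ Subgroup.zpowers γ) :
    Cor (rgdS k F p cs) (isCartanT k) 0 (gS γ) where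
  comm := comm_TS
  mem i := mem_T (φ := toPSp) (G0_tor γ i)
  conj i j := by
    refine ⟨-A k j i, ?_, by simp⟩
    have h1 : toPSp (⟨_, nn_mem WittU.amb_Sp (adm (1 : F)) i⟩ * ⟨G0 γ j, (G0_tor γ j).1⟩ *
        ⟨_, nn_mem WittU.amb_Sp (adm (1 : F)) i⟩⁻¹) =
        toPSp (⟨G0 γ j, (G0_tor γ j).1⟩ * ⟨G0 γ i, (G0_tor γ i).1⟩ ^ (-A k j i)) :=
      congrArg toPSp (Subtype.ext (nn_conj_G0 γ i j))
    rw [map_mul, map_mul, map_inv, map_mul, map_zpow] at h1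
    exact h1
  node i _ _ h3 := by
    refine node_of_zpowers (rgdS k F p cs) (mem_T (φ := toPSp) (G0_tor γ i)) ?_ h3
    by_cases hi : (i : ℕ) + 1 < k
    · have h1 : gS γ i = toPSp ⟨hX (frame k F) (i, true) (nx i) γ, (hX_tor WittU.amb_Sp (nx_ne hi) γ).1⟩ :=
        congrArg toPSp (Subtype.ext (if_pos hi))
      change ∀ y ∈ _, y ≠ 1 → tx _ i y ∈ Subgroup.zpowers (gS γ i)
      rw [h1]
      refine node_X (R := rgdS k F p cs) WittU.amb_Sp (nx_ne hi) (if_pos hi) (fun y => ?_) hγ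
      rw [WittModel.mem_X, rg_sr, WittRoot.PG_ne _ (nx_ne hi)]
      exact ⟨fun ⟨_, _, ⟨s, rfl⟩, h⟩ => ⟨s, h⟩, fun ⟨s, h⟩ => ⟨_, _, ⟨s, rfl⟩, h⟩⟩
    · refine node_Z' (KInstSp.model k F) WittU.amb_Sp (p0 := adm 1) one_ne_zero hi (rgdS k F p cs) (G0_tor γ i)
        fun q hq => ?_
      obtain ⟨j, hj⟩ := hγ (Units.mk0 q.c hq)
      refine ⟨j, ev_ext (ev_dZ (fun _ => rfl) (i, true) (p0 := adm 1) one_ne_zero (x := Units.mk0 q.c hq)
        (mul_one _).symm) ((ev_G0 γ i).zpow j) fun z => ?_⟩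
      rw [← hj, Cf_eC' hi, zpow_comm]

/-- **the data of `PSp_{2m+2}(F)`** -/
theorem sp_Phi {m : ℕ} (cs : CoxeterSystem (CoxeterMatrix.B (m + 1)) W) [Finite (PSp (m + 1) F)] {γ : Fˣ}
    (hγ : ∀ u, u ∈ Subgroup.zpowers γ) : Sp (rgdS (m + 1) F p cs) (Phi (Fin.last m)) (gS γ) := by
  have hl : ¬ ((Fin.last m : Fin (m + 1)) : ℕ) + 1 < m + 1 := by simp
  have hj : ∀ j : Fin m, ((j.castSucc : Fin (m + 1)) : ℕ) + 1 < m + 1 := fun j => by simp
  have hn : ∀ j : Fin m, WittRGD.nn (frame (m + 1) F) (adm 1) j.castSucc =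
      nX (frame (m + 1) F) (j.castSucc, true) (nx j.castSucc) 1 := fun j => if_pos (hj j)
  have hnx : ∀ j : Fin m, (nx j.castSucc).1 = j.succ := fun j => by unfold nx; rw [dif_pos (hj j)]; rfl
  refine ⟨⟨H905.Md.gg_top (WittModel.G1_eq_top (KInstSp.model (m + 1) F) (Nat.succ_pos _) cs), comm_TS, mem_X_last hl,
    Phi_x_inj _, rp_wel p cs hl, Phi_tor_mem _, T_dec _⟩, cor_gS p cs hγ, T_le_closure hγ, fun j h => ?_, fun j h => ?_⟩
  · have h1 : ∀ b, ((Fin.last m, b) : Fin (m + 1) × Bool).1 ≠ ((j.castSucc, true) : Fin (m + 1) × Bool).1 := fun b =>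
      (Fin.castSucc_lt_last j).ne'
    have h2 : ∀ b, ((Fin.last m, b) : Fin (m + 1) × Bool).1 ≠ (nx j.castSucc).1 := fun b => by
      rw [hnx]
      simp only [ne_eq, Fin.ext_iff, Fin.val_last, Fin.val_succ]
      omega
    refine ⟨mem_CS (t := ⟨_, nn_mem WittU.amb_Sp (adm (1 : F)) j.castSucc⟩) ?_ ?_, fun u hu => ?_⟩
    · exact (LinearEquiv.congr_fun (hn j) _).trans (nX_apply_of_ne _ (nx_ne (hj j)) (h1 _) (h2 _) 1)
    · exact (LinearEquiv.congr_fun (hn j) _).trans (nX_apply_of_ne _ (nx_ne (hj j)) (h1 _) (h2 _) 1)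
    · rw [WittModel.mem_X, rg_sr, WittRoot.PG_ne _ (nx_ne (hj j))] at hu
      obtain ⟨_, hg, ⟨s, rfl⟩, rfl⟩ := hu
      refine mem_CS (t := ⟨_, hg⟩) ?_ ?_
      · exact X_apply_of_ne _ (nx_ne (hj j)) (fun h => h1 true (congrArg Prod.fst h :))
          (fun h => h2 true (congrArg Prod.fst h :)) s
      · exact X_apply_of_ne _ (nx_ne (hj j)) (fun h => h1 false (congrArg Prod.fst h :))
          (fun h => h2 false (congrArg Prod.fst h :)) s
  · set g : isos (form (m + 1) F) := ⟨_, nn_mem WittU.amb_Sp (adm (1 : F)) j.castSucc⟩ with hg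
    have h1 : nS (m + 1) F j.castSucc * Phi (Fin.last m) wel * (nS (m + 1) F j.castSucc)⁻¹ =
        toPSp (g * P0 (Fin.last m) wel * g⁻¹) := by
      rw [map_mul, map_mul, map_inv]
      rfl
    have h2 : Mono (frame (m + 1) F) g.1⁻¹ (sg j.castSucc) :=
      (mono_nn (p0 := adm 1) one_ne_zero j.castSucc).inv (sg_sg _)
    have h3 : ∀ b, (g * P0 (Fin.last m) wel * g⁻¹).1 ((frame (m + 1) F).b (Fin.last m, b)) =
        (frame (m + 1) F).b (Fin.last m, b) := fun b => by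
      obtain ⟨c, -, hc⟩ := h2 (Fin.last m, b)
      have h4 : Fin.last m = ⟨(j.castSucc : Fin (m + 1)) + 1, hj j⟩ := by
        have := j.2
        simp only [Fin.ext_iff, Fin.val_last, Fin.val_castSucc]
        omega
      have h5 : (sg j.castSucc (Fin.last m, b)).1 ≠ Fin.last m := by
        conv_lhs => rw [h4, sg_down]
        exact (Fin.castSucc_lt_last j).ne
      show g.1 ((P0 (F := F) (Fin.last m) wel).1 (g.1⁻¹ _)) = _
      rw [hc, map_smul, P0_ne _ _ h5, ← hc, apply_inv]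
    rw [h1]
    exact mem_CS (h3 _) (h3 _)

/-- **(M)** -/
theorem ms : MS := by
  intro m F _ _ p _ _ W _ _ cs _ _
  obtain ⟨γ, hγ⟩ := IsCyclic.exists_generator (α := Fˣ)
  exact ⟨_, _, sp_Phi p cs hγ⟩

end Cfsg.Agent.ODD.C3
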