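import Cfsg.Agent.ODD.Lev.Par

/-!
# ODD: sums over `F ^ S` modulo 2 (helper66)
-/

set_option autoImplicit false

namespace Cfsg.Agent.ODD.C3

open Cfsg Cfsg.Agent.ODD.Lev

/-- twice the algebraic integers -/
def evGrp : AddSubgroup ℂ where
  carrier := {z | Ev z}
  zero_mem' := Ev.zero
  add_mem' := Ev.add
  neg_mem' := Ev.neg

theorem ev_invol {S : Type*} (t : Finset S) {f : S → ℂ} (σ : S → S) (ht : ∀ s ∈ t, σ s ∈ t)
    (hσ : ∀ s ∈ t, σ (σ s) = s) (hf : ∀ s ∈ t, f (σ s) = f s) (hI : ∀ s ∈ t, IsIntegral ℤ (f s))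
    (h0 : ∀ s ∈ t, σ s ≠ s) : Ev (∑ s ∈ t, f s) := by
  refine (QuotientAddGroup.eq_zero_iff (N := evGrp) _).1 ?_
  rw [← QuotientAddGroup.mk'_apply, map_sum]
  refine Finset.sum_involution (fun s _ => σ s) (fun s hs => ?_) (fun s hs _ => h0 s hs) ht hσ
  rw [← map_add, hf s hs, ← two_mul]
  exact (QuotientAddGroup.eq_zero_iff (N := evGrp) _).2 (ev_two_mul (hI s hs))

variable {F : Type*} [Field F] [Fintype F] [DecidableEq F]

theorem ev_pair (h2 : (2 : F) ≠ 0) {g : F → F → ℂ} (hI : ∀ x y, IsIntegral ℤ (g x y)) (h1 : ∀ x y, g x y = g y x)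
    (h3 : ∀ x, g (-x) (-x) = g x x) : Ev (∑ x, ∑ y, g x y - g 0 0) := by
  rw [← Finset.sum_product', Finset.univ_product_univ, ← Finset.add_sum_erase _ _ (Finset.mem_univ ((0 : F), (0 : F))),
    add_sub_cancel_left]
  refine ev_invol _ (fun s => if s.1 = s.2 then (-s.1, -s.2) else (s.2, s.1)) ?_ ?_ ?_ (fun s _ => hI _ _) ?_
  · rintro ⟨x, y⟩ hs
    rw [Finset.mem_erase] at hs ⊢
    refine ⟨fun h => hs.1 ?_, Finset.mem_univ _⟩
    by_cases e : x = y
    · simpa [e] using h
    · simp only [e, if_false, Prod.mk.injEq] at h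
      exact Prod.ext h.2 h.1
  · rintro ⟨x, y⟩ -
    by_cases e : x = y
    · simp [e]
    · simp [e, Ne.symm e]
  · rintro ⟨x, y⟩ -
    by_cases e : x = y
    · simp [e, h3]
    · simp only [e, if_false]
      exact h1 y x
  · rintro ⟨x, y⟩ hs h
    by_cases e : x = y
    · subst e
      simp only [if_true, Prod.mk.injEq, and_self] at h
      have h4 : x = 0 := (mul_eq_zero.1 (by linear_combination -h : (2 : F) * x = 0)).resolve_left h2
      exact (Finset.mem_erase.1 hs).1 (by rw [h4])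
    · rw [if_neg e] at h
      exact e (congrArg Prod.snd h)

variable {ι : Type*} [Fintype ι] [DecidableEq ι]

/-- the vectors with support in `S` -/
def supp (F : Type*) [Field F] [Fintype F] [DecidableEq F] (S : Finset ι) : Finset (ι → F) :=
  Finset.univ.filter fun a => ∀ k, k ∉ S → a k = 0

theorem mem_supp {S : Finset ι} {a : ι → F} : a ∈ supp F S ↔ ∀ k, k ∉ S → a k = 0 := by
  simp [supp]

theorem sum_supp_insert {S : Finset ι} {i : ι} (hi : i ∉ S) (f : (ι → F) → ℂ) :
    ∑ a ∈ supp F (insert i S), f a = ∑ c ∈ supp F S, ∑ x : F, f (c + Pi.single i x) := by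
  rw [← Finset.sum_product']
  refine (Finset.sum_bij' (fun p _ => p.1 + Pi.single i p.2) (fun a _ => (Function.update a i 0, a i)) ?_ ?_ ?_ ?_
    fun _ _ => rfl).symm
  · rintro ⟨c, x⟩ hp
    refine mem_supp.2 fun k hk => ?_
    rw [Finset.mem_insert, not_or] at hk
    rw [Pi.add_apply, Pi.single_eq_of_ne hk.1, add_zero]
    exact mem_supp.1 (Finset.mem_product.1 hp).1 k hk.2
  · intro a ha
    refine Finset.mem_product.2 ⟨mem_supp.2 fun k hk => ?_, Finset.mem_univ _⟩
    by_cases e : k = i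
    · rw [e]
      exact Function.update_self _ _ _
    · exact (Function.update_of_ne e _ _).trans (mem_supp.1 ha k (by simp [e, hk]))
  · rintro ⟨c, x⟩ hp
    have h1 : c i = 0 := mem_supp.1 (Finset.mem_product.1 hp).1 i hi
    refine Prod.ext (funext fun k => ?_) (by simp [h1])
    by_cases e : k = i
    · simp [e, h1]
    · simp [e]
  · intro a _
    funext k
    by_cases e : k = i
    · simp [e]
    · simp [e]

/-- **the sum over `F ^ S`, `|S|` even** -/
theorem ev_supp (h2 : (2 : F) ≠ 0) {f : (ι → F) → ℂ} (hI : ∀ a, IsIntegral ℤ (f a))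
    (h1 : ∀ (c : ι → F) (i j : ι), i ≠ j → c i = 0 → c j = 0 → ∀ x y,
      f (c + Pi.single i x + Pi.single j y) = f (c + Pi.single i y + Pi.single j x))
    (h3 : ∀ (c : ι → F) (i j : ι), i ≠ j → c i = 0 → c j = 0 → ∀ x,
      f (c + Pi.single i (-x) + Pi.single j (-x)) = f (c + Pi.single i x + Pi.single j x)) :
    ∀ (r : ℕ) (S : Finset ι), S.card = 2 * r → Ev (∑ a ∈ supp F S, f a - f 0) := by
  intro r
  induction r with
  | zero =>
    intro S hS
    have h4 : supp F S = {0} := by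
      ext a
      rw [Finset.card_eq_zero.1 hS, mem_supp, Finset.mem_singleton]
      exact ⟨fun h => funext fun k => h k (Finset.notMem_empty k), fun h k _ => by rw [h]; rfl⟩
    rw [h4, Finset.sum_singleton, sub_self]
    exact Ev.zero
  | succ r ih =>
    intro S hS
    obtain ⟨j, S₁, hj, rfl, h4⟩ := Finset.card_eq_succ.1 (show S.card = 2 * r + 1 + 1 from hS)
    obtain ⟨i, S₂, hi, rfl, h5⟩ := Finset.card_eq_succ.1 h4
    rw [Finset.mem_insert, not_or] at hj
    have h6 := Ev.sum (supp F S₂) (f := fun c => ∑ x, ∑ y, f (c + Pi.single i x + Pi.single j y) - f c) fun c hc => by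
      have h7 := ev_pair h2 (g := fun x y => f (c + Pi.single i x + Pi.single j y)) (fun _ _ => hI _)
        (h1 c i j (Ne.symm hj.1) (mem_supp.1 hc i hi) (mem_supp.1 hc j hj.2))
        (h3 c i j (Ne.symm hj.1) (mem_supp.1 hc i hi) (mem_supp.1 hc j hj.2))
      simpa only [Pi.single_zero, add_zero] using h7
    have h7 := h6.add (ih S₂ h5)
    rw [Finset.sum_sub_distrib, sub_add_sub_cancel] at h7
    rwa [sum_supp_insert (by simp [hj.1, hj.2]), sum_supp_insert hi]

end Cfsg.Agent.ODD.C3
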