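import Cfsg.Agent.ODD.PS.C3Defs
import Cfsg.Agent.ODD.C3.PComb
import Cfsg.Agent.Nodes.NormalForm

/-!
# ODD: the parity of the fixed spaces of `PSp_{2n}(q)`, `q ≡ 3 mod 4` (helper66)
-/

set_option autoImplicit false

namespace Cfsg.Agent.ODD.C3

open Cfsg Cfsg.Agent.ODD.Lev Cfsg.Agent.ClassicalGeometry.SympBasic
open Cfsg.Agent.TitsThree Cfsg.Agent.TitsThree.SpIdent Cfsg.Agent.TitsThree.WittWeyl
open Cfsg.Agent.ChevalleyStructure.CoxeterGeom Cfsg.Agent.Tits.Roots
open Cfsg.Agent.Nodes Cfsg.Agent.Nodes.TypeC Cfsg.Agent.Nodes.BNOf Cfsg.Agent.Nodes.WittRoot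

variable {n : ℕ} {F : Type} [Field F]

/-- the product of the long root elements -/
def zzL (a : Fin n → F) : (Fin n ⊕ Fin n → F) ≃ₗ[F] (Fin n ⊕ Fin n → F) where
  toFun v := Sum.elim (fun k => v (.inl k)) fun k => v (.inr k) - a k * v (.inl k)
  invFun v := Sum.elim (fun k => v (.inl k)) fun k => v (.inr k) + a k * v (.inl k)
  map_add' v w := by
    ext (k | k) <;> simp
    ring
  map_smul' c v := by
    ext (k | k) <;> simp
    ring
  left_inv v := by ext (k | k) <;> simp
  right_inv v := by ext (k | k) <;> simp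

theorem zzL_inl (a : Fin n → F) (v : Fin n ⊕ Fin n → F) (k : Fin n) : zzL a v (.inl k) = v (.inl k) := rfl

theorem zzL_inr (a : Fin n → F) (v : Fin n ⊕ Fin n → F) (k : Fin n) :
    zzL a v (.inr k) = v (.inr k) - a k * v (.inl k) := rfl

theorem zzL_apply (a : Fin n → F) (v : Fin n ⊕ Fin n → F) :
    zzL a v = v + ∑ k, (a k * sympForm n F v (e n F k)) • e n F k := by
  ext (k | k)
  · simp [zzL_inl, e, Finset.sum_apply]
  · simp [zzL_inr, e, Finset.sum_apply, sympForm_single_inr_right, Pi.single_apply, sub_eq_add_neg]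

theorem zzL_mem (a : Fin n → F) : zzL a ∈ isos (form n F) := fun v w => by
  rw [form_h, form_h, sympForm_eq_sum, sympForm_eq_sum]
  refine Finset.sum_congr rfl fun k _ => ?_
  rw [zzL_inl, zzL_inl, zzL_inr, zzL_inr]
  ring

theorem zzL_add (a b : Fin n → F) : zzL (a + b) = zzL a * zzL b := by
  ext v (k | k)
  · rfl
  · rw [LinearEquiv.mul_apply, zzL_inr, zzL_inr, zzL_inr, zzL_inl, Pi.add_apply]
    ring

theorem zzL_single (i : Fin n) (x : F) : zzL (Pi.single i x) = (frame n F).Z (i, true) (adm x) := by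
  refine LinearEquiv.ext fun v => ?_
  rw [zzL_apply, Z_apply, Finset.sum_eq_single i (fun k _ hk => by simp [hk]) (by simp), Pi.single_eq_same]
  change _ = v + sympForm n F v (e n F i) • (0 : Fin n ⊕ Fin n → F) - ((-1 : F)⁻¹ * sympForm n F v 0) • e n F i +
    (x * sympForm n F v (e n F i)) • e n F i
  simp

/-- its image in `PSp` -/
noncomputable def zP (a : Fin n → F) : PSp n F := toPSp ⟨zzL a, zzL_mem a⟩

theorem zP_add (a b : Fin n → F) : zP (a + b) = zP a * zP b := by
  rw [zP, zP, zP, ← map_mul]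
  exact congrArg toPSp (Subtype.ext (zzL_add a b))

theorem zP_zero : zP (0 : Fin n → F) = 1 := by
  have h := zP_add (0 : Fin n → F) 0
  rw [add_zero] at h
  exact (mul_eq_left.1 h.symm)

theorem zP_neg (a : Fin n → F) : zP (-a) = (zP a)⁻¹ :=
  eq_inv_of_mul_eq_one_left (by rw [← zP_add, neg_add_cancel, zP_zero])

theorem zP_inj : Function.Injective (zP : (Fin n → F) → PSp n F) := fun a b h => by
  have h1 : zP (a - b) = 1 := by rw [sub_eq_add_neg, zP_add, zP_neg, h, mul_inv_cancel]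
  obtain ⟨c, -, hc⟩ := exists_smul_of_toPSp_eq_one h1
  funext k
  have h2 := congrFun (hc (f n F k)) (.inr k)
  change zzL (a - b) (f n F k) (.inr k) = _ at h2
  rw [zzL_inr] at h2
  exact Eq.symm (by simpa [f, sub_eq_zero] using h2)

theorem conj_zP {g : (Fin n ⊕ Fin n → F) ≃ₗ[F] (Fin n ⊕ Fin n → F)} (hg : g ∈ isos (form n F)) {a b : Fin n → F}
    (h : ∀ w, ∑ k, (a k * sympForm n F w (g (e n F k))) • g (e n F k) =
      ∑ k, (b k * sympForm n F w (e n F k)) • e n F k) : toPSp ⟨g, hg⟩ * zP a * (toPSp ⟨g, hg⟩)⁻¹ = zP b := by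
  rw [mul_inv_eq_iff_eq_mul, zP, zP, ← map_mul, ← map_mul]
  refine congrArg toPSp (Subtype.ext (LinearEquiv.ext fun v => ?_))
  change g (zzL a v) = zzL b (g v)
  rw [zzL_apply, zzL_apply, map_add, map_sum, ← h]
  refine congrArg _ (Finset.sum_congr rfl fun k _ => ?_)
  rw [map_smul, ← form_h, ← form_h, hg]

theorem exists_levi {i j : Fin n} (hij : i ≠ j) (s t r : F) :
    ∃ g ∈ isos (form n F), g (e n F i) = (1 + s * t) • e n F i + t • e n F j ∧
      g (e n F j) = (r + s + r * s * t) • e n F i + (1 + r * t) • e n F j ∧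
      ∀ k, k ≠ i → k ≠ j → g (e n F k) = e n F k := by
  have h1 : ∀ {i j : Fin n}, i ≠ j → ∀ t, (frame n F).X (i, true) (j, false) t (e n F j) = e n F j + t • e n F i :=
    fun {i j} hij t => X_apply_neg (frame n F) (x := (i, true)) (y := (j, false)) hij t
  have h2 : ∀ {i j k : Fin n}, i ≠ j → k ≠ j → ∀ t, (frame n F).X (i, true) (j, false) t (e n F k) = e n F k :=
    fun {i j k} hij hk t => X_apply_of_ne (frame n F) (x := (i, true)) (y := (j, false)) (z := (k, true)) hij
      (fun h => by simp [WittFrame.neg] at h) (fun h => hk (congrArg Prod.fst h)) t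
  refine ⟨(frame n F).X (i, true) (j, false) s * (frame n F).X (j, true) (i, false) t *
    (frame n F).X (i, true) (j, false) r, mul_mem (mul_mem ((frame n F).isIso_X _ _ _) ((frame n F).isIso_X _ _ _))
      ((frame n F).isIso_X _ _ _), ?_, ?_, fun k hi hj => ?_⟩
  · rw [mul_apply', mul_apply', h2 hij hij, h1 hij.symm, map_add, map_smul, h2 hij hij, h1 hij]
    module
  · rw [mul_apply', mul_apply', h1 hij, map_add, map_smul, h2 hij.symm hij.symm, h1 hij.symm]
    simp only [map_add, map_smul, h2 hij hij, h1 hij]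
    module
  · rw [mul_apply', mul_apply', h2 hij hj, h2 hij.symm hi, h2 hij hj]

theorem conj_pair {i j : Fin n} (hij : i ≠ j) (s t r : F) {c : Fin n → F} (hi : c i = 0) (hj : c j = 0) {x y x' y' : F}
    (h1 : x * (1 + s * t) ^ 2 + y * (r + s + r * s * t) ^ 2 = x') (h2 : x * t ^ 2 + y * (1 + r * t) ^ 2 = y')
    (h3 : x * (1 + s * t) * t + y * (r + s + r * s * t) * (1 + r * t) = 0) :
    ∃ g : PSp n F, g * zP (c + Pi.single i x + Pi.single j y) * g⁻¹ = zP (c + Pi.single i x' + Pi.single j y') := by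
  obtain ⟨g, hg, gi, gj, gk⟩ := exists_levi hij s t r
  refine ⟨_, conj_zP hg fun w => ?_⟩
  have h4 : ∀ (i : Fin n) (x : F) (A : Fin n → F) (B : Fin n → Fin n ⊕ Fin n → F),
      ∑ k, ((Pi.single i x : Fin n → F) k * A k) • B k = (x * A i) • B i := fun i x A B => by
    rw [Finset.sum_eq_single i (fun k _ hk => by simp [hk]) (by simp), Pi.single_eq_same]
  have h5 : ∑ k, (c k * sympForm n F w (g (e n F k))) • g (e n F k) =
      ∑ k, (c k * sympForm n F w (e n F k)) • e n F k := Finset.sum_congr rfl fun k _ => by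
    by_cases h : c k = 0
    · rw [h, zero_mul, zero_mul, zero_smul, zero_smul]
    · rw [gk k (fun e => h (e ▸ hi)) fun e => h (e ▸ hj)]
  simp only [Pi.add_apply, add_mul, add_smul, Finset.sum_add_distrib, h4, h5, gi, gj, sympForm_add_right,
    sympForm_smul_right, add_assoc, add_right_inj]
  rw [← h1, ← h2]
  match_scalars
  · linear_combination sympForm n F w (e n F j) * h3
  · linear_combination sympForm n F w (e n F i) * h3

/-! ### the sign changes -/

/-- the sign of a coordinate -/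
def sgn (F : Type) [Field F] (s : Fin n → ℤˣ) (k : Fin n) : F := ((s k : ℤ) : F)

theorem sgn_mul_self (s : Fin n → ℤˣ) (k : Fin n) : sgn F s k * sgn F s k = 1 := by
  rw [sgn, ← Int.cast_mul, ← Units.val_mul, Int.units_mul_self, Units.val_one, Int.cast_one]

/-- a diagonal element with entries `± 1` -/
def ddL (F : Type) [Field F] (s : Fin n → ℤˣ) : (Fin n ⊕ Fin n → F) ≃ₗ[F] (Fin n ⊕ Fin n → F) where
  toFun v j := sgn F s (j.elim id id) * v j
  invFun v j := sgn F s (j.elim id id) * v j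
  map_add' v w := funext fun j => mul_add _ _ _
  map_smul' c v := funext fun j => mul_left_comm _ _ _
  left_inv v := funext fun j => (mul_assoc _ _ _).symm.trans (by rw [sgn_mul_self, one_mul])
  right_inv v := funext fun j => (mul_assoc _ _ _).symm.trans (by rw [sgn_mul_self, one_mul])

theorem ddL_apply (s : Fin n → ℤˣ) (v : Fin n ⊕ Fin n → F) (j : Fin n ⊕ Fin n) :
    ddL F s v j = sgn F s (j.elim id id) * v j := rfl

theorem ddL_mem (s : Fin n → ℤˣ) : ddL F s ∈ isos (form n F) := fun v w => by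
  rw [form_h, form_h, sympForm_eq_sum, sympForm_eq_sum]
  refine Finset.sum_congr rfl fun k _ => ?_
  simp only [ddL_apply, Sum.elim_inl, Sum.elim_inr, id]
  linear_combination (v (.inr k) * w (.inl k) - v (.inl k) * w (.inr k)) * sgn_mul_self (F := F) s k

theorem ddL_b (s : Fin n → ℤˣ) (x : Fin n × Bool) : ddL F s ((frame n F).b x) = sgn F s x.1 • (frame n F).b x := by
  obtain ⟨k, _ | _⟩ := x
  · change ddL F s (f n F k) = _ • f n F k
    ext j
    by_cases h : j = .inl k
    · simp [h, ddL_apply]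
    · simp [h, ddL_apply, f]
  · change ddL F s (e n F k) = _ • e n F k
    ext j
    by_cases h : j = .inr k
    · simp [h, ddL_apply]
    · simp [h, ddL_apply, e]

/-- the sign changes in `PSp` -/
noncomputable def dP (n : ℕ) (F : Type) [Field F] : (Fin n → ℤˣ) →* PSp n F :=
  toPSp.comp
    { toFun := fun s => ⟨ddL F s, ddL_mem s⟩
      map_one' := Subtype.ext (LinearEquiv.ext fun v => funext fun j => by
        change sgn F 1 _ * v j = v j
        simp [sgn])
      map_mul' := fun s t => Subtype.ext (LinearEquiv.ext fun v => funext fun j => by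
        change sgn F (s * t) _ * v j = sgn F s _ * (sgn F t _ * v j)
        simp [sgn, mul_assoc]) }

theorem dP_apply (s : Fin n → ℤˣ) : dP n F s = toPSp ⟨ddL F s, ddL_mem s⟩ := rfl

theorem dP_mem (s : Fin n → ℤˣ) : dP n F s ∈ WittModel.T (KInstSp.model n F) :=
  ⟨⟨ddL F s, ddL_mem s⟩, ⟨ddL_mem s, fun x => ⟨sgn F s x.1, left_ne_zero_of_mul_eq_one (sgn_mul_self s _), ddL_b s x⟩⟩,
    rfl⟩

theorem dP_conj (s : Fin n → ℤˣ) (a : Fin n → F) : dP n F s * zP a * (dP n F s)⁻¹ = zP a :=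
  conj_zP (ddL_mem s) fun w => Finset.sum_congr rfl fun k _ => by
    rw [show ddL F s (e n F k) = _ • e n F k from ddL_b s (k, true), sympForm_smul_right, smul_smul]
    congr 1
    linear_combination a k * sympForm n F w (e n F k) * sgn_mul_self (F := F) s k

theorem short_eq_one (h2 : (2 : F) ≠ 0) {a b : Fin n × Bool} (hab : a.1 ≠ b.1) {t : F}
    (h : ∀ s, dP n F s * toPSp ⟨(frame n F).X a b t, (frame n F).isIso_X a b t⟩ =
      toPSp ⟨(frame n F).X a b t, (frame n F).isIso_X a b t⟩ * dP n F s) : t = 0 := by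
  have h1 := conj_X (frame n F) (ddL_mem (F := F) (Pi.mulSingle a.1 (-1))) hab hab (ddL_b _ a) (ddL_b _ b) t
  rw [show sgn F (Pi.mulSingle a.1 (-1)) a.1 = -1 by simp [sgn],
    show sgn F (Pi.mulSingle a.1 (-1)) b.1 = 1 by simp [sgn, Ne.symm hab], map_one, mul_one,
    mul_assoc (-1 : F), inv_mul_cancel₀ ((frame n F).η_ne b), mul_one, neg_one_mul] at h1
  have h3 : toPSp ⟨(frame n F).X a b (t + t), (frame n F).isIso_X a b _⟩ = 1 := by
    have h4 := mul_inv_eq_iff_eq_mul.2 (h (Pi.mulSingle a.1 (-1)))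
    rw [dP_apply, ← map_inv, ← map_mul, ← map_mul, ← mul_inv_eq_one, ← map_inv, ← map_mul] at h4
    rw [← inv_eq_one, ← map_inv, ← h4]
    refine congrArg toPSp (Subtype.ext ?_)
    change ((frame n F).X a b (t + t))⁻¹ = ddL F _ * (frame n F).X a b t * (ddL F _)⁻¹ * ((frame n F).X a b t)⁻¹
    rw [h1, ← (frame n F).X_neg, ← (frame n F).X_neg, ← (frame n F).X_add, neg_add]
  obtain ⟨c, -, hc⟩ := exists_smul_of_toPSp_eq_one h3
  have h4 : (frame n F).b (WittFrame.neg b) + (t + t) • (frame n F).b a = c • (frame n F).b (WittFrame.neg b) :=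
    (X_apply_neg (frame n F) hab _).symm.trans (hc _)
  have h5 := congrArg (fun v => (form n F).h v ((frame n F).b (WittFrame.neg a))) h4
  simp only [(form n F).add_left, (form n F).smul_left] at h5
  rw [(frame n F).hb_of_ne (x := WittFrame.neg b) (y := WittFrame.neg a) (Ne.symm hab), (frame n F).hb_self_neg, zero_add,
    mul_zero, mul_eq_zero, ← two_mul, mul_eq_zero] at h5
  exact (h5.resolve_right ((frame n F).η_ne _)).resolve_left h2

/-! ### the long roots -/

theorem sum_ee' (m : Fin n) (x : Fin n → ℤ) :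
    ∑ k ∈ Finset.Iic m, TypeC.ee x k = (if (m : ℕ) + 1 < n then 1 else 2) * x m := by
  have h1 : ∀ k, TypeC.ee x k = ∑ j, x j * bt j k := fun k => by simp [TypeC.ee, Finset.sum_apply]
  simp only [h1]
  rw [Finset.sum_comm]
  simp only [← Finset.mul_sum, sum_bt]
  rw [Finset.sum_eq_single m]
  · simp only [if_true]
    split_ifs <;> ring
  · intro j _ hj
    simp [Ne.symm hj]
  · simp

theorem long_coeff {x : Fin n → ℤ} {a : Fin n × Bool} (h : TypeC.ee x = wt a + wt a) :
    (if (a.1 : ℕ) + 1 < n then 1 else 2) * x a.1 = if a.2 then 2 else -2 := by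
  rw [← sum_ee', h]
  simp only [Pi.add_apply, Finset.sum_add_distrib, wt, Finset.sum_pi_single', Finset.mem_Iic, le_refl, if_true]
  split_ifs <;> rfl

variable {W : Type} [Group W] (cs : CoxeterSystem (CoxeterMatrix.B n) W)

theorem exists_long_pos (k : Fin n) : ∃ x, IsRoot cs (isCartan n) x ∧ 0 ≤ x ∧ TypeC.ee x = wt (k, true) + wt (k, true) := by
  obtain ⟨x, hx, h⟩ := rt_of_ok (cs := cs) (a := (k, true)) (b := (k, true)) (Or.inr rfl)
  refine ⟨x, hx, hx.pos_or_neg.resolve_right fun h1 => ?_, h⟩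
  have h2 := long_coeff h
  have h3 : x k ≤ 0 := h1 k
  simp only [if_true] at h2
  split_ifs at h2 <;> omega

theorem mem_long {x : Fin n → ℤ} {k : Fin n} (h : TypeC.ee x = wt (k, true) + wt (k, true)) {u : PSp n F} :
    u ∈ WittModel.X (KInstSp.model n F) x ↔ ∃ c, u = zP (Pi.single k c) := by
  rw [WittModel.mem_X]
  simp only [rg_eq (frame n F) (Or.inr rfl) h, PG_self, mem_ZG]
  constructor
  · rintro ⟨_, hg, ⟨p, rfl⟩, rfl⟩
    exact ⟨p.c, congrArg toPSp (Subtype.ext ((congrArg _ (eq_adm p)).trans (zzL_single k _).symm))⟩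
  · rintro ⟨c, rfl⟩
    exact ⟨_, zzL_mem _, ⟨_, zzL_single k c⟩, rfl⟩

variable [Fintype F] [DecidableEq F]

omit [Group W] in
theorem zP_mem {P : Subgroup (PSp n F)} (S : Finset (Fin n)) (h : ∀ k ∈ S, ∀ c, zP (Pi.single k c) ∈ P) :
    ∀ a ∈ supp F S, zP a ∈ P := fun a ha => by
  rw [← Finset.univ_sum_single a]
  refine Finset.sum_induction _ (fun b => zP b ∈ P) (fun b c hb hc => by rw [zP_add]; exact mul_mem hb hc)
    (by rw [zP_zero]; exact one_mem _) fun k _ => ?_
  by_cases hk : k ∈ S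
  · exact h k hk _
  · rw [mem_supp.1 ha k hk, Pi.single_zero, zP_zero]
    exact one_mem _

omit [DecidableEq F] in
/-- the centralizer of the sign changes in `U` -/
theorem exists_zP (hq : Fintype.card F % 4 = 3) {u : PSp n F}
    (hu : u ∈ RGD.Sup (WittModel.X (KInstSp.model n F)) (RGD.Pos cs (isCartan n)))
    (hc : u ∈ Subgroup.centralizer (Set.range (dP n F))) : ∃ a, u = zP a := by
  have h2 : (2 : F) ≠ 0 := Ring.two_ne_zero fun h => by
    have := FiniteField.even_card_iff_char_two.1 h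
    omega
  have := finite_W cs
  have : Fact (ringChar F).Prime := ⟨CharP.char_is_prime F _⟩
  let Q : Subgroup (PSp n F) :=
    { carrier := {u | ∃ a, u = zP a}
      one_mem' := ⟨0, zP_zero.symm⟩
      mul_mem' := by
        rintro _ _ ⟨a, rfl⟩ ⟨b, rfl⟩
        exact ⟨_, (zP_add a b).symm⟩
      inv_mem' := by
        rintro _ ⟨a, rfl⟩
        exact ⟨_, (zP_neg a).symm⟩ }
  have h1 := (NormalForm.centralizer_U (PS.C3.rgdS n F (ringChar F) cs) (S := Set.range (dP n F))
    (by rintro _ ⟨s, rfl⟩; exact dP_mem s)).le ⟨hu, hc⟩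
  refine RGD.Sup_le (K := Q) ?_ h1
  rintro x ⟨hx, h0⟩ g ⟨hg, hg'⟩
  obtain ⟨a, b, hab, h⟩ := exists_of_isRoot cs hx
  rcases hab with hab | rfl
  · obtain ⟨g, hg, h3, rfl⟩ := (WittModel.mem_X _).1 hg
    rw [rg_eq _ (Or.inl hab) h, PG_ne _ hab] at h3
    obtain ⟨t, rfl⟩ := h3
    have h4 : t = 0 := short_eq_one h2 hab fun s => Subgroup.mem_centralizer_iff.1 hg' _ ⟨s, rfl⟩
    subst h4
    exact ⟨0, (congrArg toPSp (Subtype.ext ((frame n F).X_zero a b))).trans ((map_one _).trans zP_zero.symm)⟩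
  · obtain ⟨k, _ | _⟩ := a
    · have h3 := long_coeff h
      have h4 : 0 ≤ x k := h0 k
      simp only [Bool.false_eq_true, if_false] at h3
      split_ifs at h3 <;> omega
    · obtain ⟨c, rfl⟩ := (mem_long h).1 hg
      exact ⟨_, rfl⟩

omit [Group W] in
theorem ev_of (hq : Fintype.card F % 4 = 3) {P : Subgroup (PSp n F)} (S : Finset (Fin n)) (hS : Even S.card)
    (hn : ∀ s, ∀ u ∈ P, dP n F s * u * (dP n F s)⁻¹ ∈ P) (h1 : ∀ k ∈ S, ∀ c, zP (Pi.single k c) ∈ P)
    (h3 : ∀ u ∈ P, u ∈ Subgroup.centralizer (Set.range (dP n F)) → ∃ a ∈ supp F S, u = zP a) {χ : PSp n F → ℂ}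
    (hχ : IsCharacter (PSp n F) χ) : Ev (∑ᶠ u : P, χ u - χ 1) := by
  classical
  have h2 : (2 : F) ≠ 0 := Ring.two_ne_zero fun h => by
    have := FiniteField.even_card_iff_char_two.1 h
    omega
  have : Finite (PSp n F) := Quotient.finite _
  have := Fintype.ofFinite (PSp n F)
  have hcl := Characters.Core.isCharacter_isClassFunction hχ
  have hI := Characters.GaloisBasic.isIntegral_apply hχ
  rw [finsum_eq_sum_of_fintype, ← Finset.sum_subtype (Finset.univ.filter (· ∈ P)) (by simp) χ,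
    ← Finset.sum_filter_add_sum_filter_not _ (· ∈ Subgroup.centralizer (Set.range (dP n F))), add_sub_right_comm]
  refine Ev.add ?_ ?_
  · have h4 : (Finset.univ.filter (· ∈ P)).filter (· ∈ Subgroup.centralizer (Set.range (dP n F))) =
        (supp F S).image zP := by
      ext u
      simp only [Finset.mem_filter, Finset.mem_univ, true_and, Finset.mem_image]
      constructor
      · rintro ⟨hu, hc⟩
        obtain ⟨a, ha, rfl⟩ := h3 u hu hc
        exact ⟨a, ha, rfl⟩
      · rintro ⟨a, ha, rfl⟩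
        refine ⟨zP_mem S h1 a ha, Subgroup.mem_centralizer_iff.2 ?_⟩
        rintro _ ⟨s, rfl⟩
        exact mul_inv_eq_iff_eq_mul.1 (dP_conj s a)
    obtain ⟨r, hr⟩ := hS
    rw [h4, Finset.sum_image fun a _ b _ h => zP_inj h, ← zP_zero]
    refine ev_supp h2 (f := fun a => χ (zP a)) (fun a => hI _) (fun c i j hij hi hj x y => ?_)
      (fun c i j hij hi hj x => ?_) r S (by omega)
    · obtain ⟨g, hg⟩ := conj_pair hij (-1) 1 (-1) hi hj (x := x) (y := y) (x' := y) (y' := x) (by ring) (by ring) (by ring)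
      rw [← hg, hcl]
    · have : NeZero (ringChar F) := ⟨(CharP.char_is_prime F _).ne_zero⟩
      obtain ⟨a, b, hab⟩ := CharP.sq_add_sq F (ringChar F) (-1)
      rw [Int.cast_neg, Int.cast_one] at hab
      have hb : (b : F) ≠ 0 := fun h => FiniteField.isSquare_neg_one_iff.1 ⟨(a : F), by rw [← hab, h]; ring⟩ hq
      have e1 : 1 + (a - 1) / (b : F) * b = a := by field_simp; ring
      have e2 : 1 + (-a - 1) / (b : F) * b = -a := by field_simp; ring
      have e3 : (-a - 1) / (b : F) + (a - 1) / b + (-a - 1) / (b : F) * ((a - 1) / b) * b = b := by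
        field_simp
        linear_combination -hab
      obtain ⟨g, hg⟩ := conj_pair hij ((a - 1) / (b : F)) b ((-a - 1) / (b : F)) hi hj (x := x) (y := x) (x' := -x)
        (y' := -x) (by rw [e1, e3]; linear_combination x * hab) (by rw [e2]; linear_combination x * hab)
        (by rw [e1, e2, e3]; ring)
      rw [← hg, hcl]
  · refine ev_sum (D := Fin n → ℤˣ) (fun s => ⟨1, funext fun k => by simp⟩)
      ((MulAction.toPermHom (MulAut (PSp n F)) (PSp n F)).comp (MulAut.conj.comp (dP n F))) _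
      (fun s u hu => ?_) (fun s u _ => hcl u _) (fun u _ => hI u) fun u hu => ?_
    · simp only [Finset.mem_filter, Finset.mem_univ, true_and] at hu ⊢
      refine ⟨hn s u hu.1, fun h => hu.2 (Subgroup.mem_centralizer_iff.2 ?_)⟩
      rintro _ ⟨t, rfl⟩
      have h4 : dP n F t * (dP n F s * u * (dP n F s)⁻¹) = dP n F s * u * (dP n F s)⁻¹ * dP n F t :=
        Subgroup.mem_centralizer_iff.1 h _ ⟨t, rfl⟩
      have h5 : dP n F t * dP n F s = dP n F s * dP n F t := by rw [← map_mul, mul_comm, map_mul]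
      calc dP n F t * u = (dP n F s)⁻¹ * (dP n F s * dP n F t) * u := by group
        _ = (dP n F s)⁻¹ * (dP n F t * (dP n F s * u * (dP n F s)⁻¹)) * dP n F s := by rw [← h5]; group
        _ = u * (dP n F s)⁻¹ * (dP n F t * dP n F s) := by rw [h4]; group
        _ = _ := by rw [h5]; group
    · by_contra h
      refine (Finset.mem_filter.1 hu).2 (Subgroup.mem_centralizer_iff.2 ?_)
      rintro _ ⟨t, rfl⟩
      exact mul_inv_eq_iff_eq_mul.1 (by_contra fun h' => h ⟨t, h'⟩)

/-- **(P)** -/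
theorem parS : PS.C3.ParS := by
  classical
  intro m F _ _ W _ cs hq χ hχ
  have := finite_W cs
  have : Fact (ringChar F).Prime := ⟨CharP.char_is_prime F _⟩
  have : Finite (PSp (m + 1) F) := Quotient.finite _
  have R := PS.C3.rgdS (m + 1) F (ringChar F) cs
  have hl : TypeC.ee (sr (Fin.last m)) = wt (Fin.last m, true) + wt (Fin.last m, true) := by
    rw [ee_sr, bt, nx, dif_neg (by simp)]
  refine ⟨fun hm => ev_of hq Finset.univ (by rwa [Finset.card_fin]) (fun s u hu => ?_) (fun k _ c => ?_)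
    (fun u hu hc => ?_) hχ, fun hm => ev_of hq (Finset.univ.erase (Fin.last m)) ?_ (fun s u hu => ?_) ?_
    (fun u hu hc => ?_) hχ⟩
  · exact (Subgroup.mem_normalizer_iff.1 (R.T_le_normalizer_U (dP_mem s)) u).1 hu
  · obtain ⟨x, hx, h0, h⟩ := exists_long_pos cs k
    exact RGD.le_Sup (S := RGD.Pos cs _) ⟨hx, h0⟩ ((mem_long h).2 ⟨c, rfl⟩)
  · obtain ⟨a, rfl⟩ := exists_zP cs hq hu hc
    exact ⟨a, mem_supp.2 fun k hk => absurd (Finset.mem_univ k) hk, rfl⟩
  · rw [Finset.card_erase_of_mem (Finset.mem_univ _), Finset.card_fin]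
    obtain ⟨r, hr⟩ := hm
    exact ⟨r, by omega⟩
  · exact (Subgroup.mem_normalizer_iff.1 (R.T_le_normalizer (fun x hx => hx.1) (dP_mem s)) u).1 hu
  all_goals
    have h1 : ∀ k ∈ Finset.univ.erase (Fin.last m), ∀ c : F, zP (Pi.single k c) ∈
        RGD.Sup (WittModel.X (KInstSp.model (m + 1) F)) (RGD.PosNe cs (isCartan (m + 1)) (Fin.last m)) := fun k hk c => by
      obtain ⟨x, hx, h0, h⟩ := exists_long_pos cs k
      refine RGD.le_Sup (S := RGD.PosNe cs _ _) ⟨hx, h0, fun e => (Finset.mem_erase.1 hk).1 ?_⟩ ((mem_long h).2 ⟨c, rfl⟩)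
      rw [e, hl] at h
      rcases wt_add_eq (Or.inr rfl) (Or.inr rfl) h with h1 | h1 <;> exact (congrArg Prod.fst h1.1).symm
  · exact h1
  · have h0 : RGD.Sup (WittModel.X (KInstSp.model (m + 1) F)) (RGD.PosNe cs (isCartan (m + 1)) (Fin.last m)) ≤
        RGD.Sup (WittModel.X (KInstSp.model (m + 1) F)) (RGD.Pos cs (isCartan (m + 1))) :=
      RGD.Sup_mono fun _ hx => ⟨hx.1, hx.2.1⟩
    obtain ⟨a, rfl⟩ := exists_zP cs hq (h0 hu) hc
    refine ⟨a, mem_supp.2 fun k hk => ?_, rfl⟩
    have hk' : k = Fin.last m := by simpa using hk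
    have h2 := zP_mem _ h1 (a - Pi.single k (a k)) (mem_supp.2 fun j hj => by
      have hj' : j = Fin.last m := by simpa using hj
      rw [hj', ← hk', Pi.sub_apply, Pi.single_eq_same, sub_self])
    have h3 := mul_mem (inv_mem h2) hu
    rw [← zP_neg, ← zP_add, neg_sub, sub_add_cancel] at h3
    have h4 := zP_inj ((H684.OQ.eq_one_of_mem_V R ((mem_long hl).2 ⟨a k, by rw [hk']⟩) h3).trans zP_zero.symm)
    simpa using congrFun h4 k

end Cfsg.Agent.ODD.C3
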