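import Cfsg.Agent.ODD.PS.C3Defs
import Cfsg.Agent.H670.SL2Vals
import Cfsg.Agent.H992.HT.Trace

/-!
# ODD / GAL: `PSp_{2n}(q)`, `q ≡ 3 mod 4`: the idempotent of rank one and the parity (helper22, task 337)

`qs : QS`, `tw_fc`, `tw_mp`.
-/

set_option autoImplicit false
set_option linter.unusedSectionVars false

open Cfsg
open scoped ComplexConjugate

namespace Cfsg.Agent.ODD.C3.Q

open CoxeterSystem Cfsg.Agent.ChevalleyStructure.CoxeterGeom Cfsg.Agent.Tits.Roots Cfsg.Agent.Tits.Core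
  Cfsg.Agent.Nodes.Reps Cfsg.Agent.Nodes.BNOf Cfsg.Agent.Nodes.Bruhat
  Cfsg.Agent.H684.OQ Cfsg.Agent.H670 Cfsg.Agent.H670.RankOne Cfsg.Agent.ODD.PS.C3 Cfsg.Agent.Characters.Core

/-! ### the group algebra -/

section alg

variable {G Y : Type} [Group G] [Group Y]

theorem lin_eq (χ : G → ℂ) (a : Al G) : lin χ a = Blocks.GroupAlg.lin χ a := by
  induction a using al_induction with
  | hd g => rw [lin_dl]; exact ((Blocks.GroupAlg.lin_single χ g 1).trans (one_mul _)).symm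
  | ha a b ha hb => simp only [map_add, ha, hb]
  | hs c a ha => simp only [map_smul, ha]

theorem lin_comb {ι : Type} [Fintype ι] (m : ι → ℕ) (f : ι → G → ℂ) (a : Al G) :
    lin (∑ i, m i • f i) a = ∑ i, m i * lin (f i) a := by
  induction a using al_induction with
  | hd g => simp only [lin_dl, Finset.sum_apply, nsmul_eq_mul, Pi.mul_apply, Pi.natCast_apply]
  | ha a b ha hb => simp only [map_add, ha, hb, mul_add, Finset.sum_add_distrib]
  | hs c a ha => simp only [map_smul, ha, smul_eq_mul, Finset.mul_sum, mul_left_comm]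

theorem comm_mp (Φ : G →* Y) {e : Al Y} (h : ∀ s, e * dl (Φ s) = dl (Φ s) * e) (a : Al G) :
    e * mp Φ a = mp Φ a * e := by
  induction a using al_induction with
  | hd g => rw [mp_dl, h]
  | ha a b ha hb => rw [map_add, mul_add, add_mul, ha, hb]
  | hs c a ha => rw [map_smul, mul_smul_comm, smul_mul_assoc, ha]

theorem lin_mp (Φ : G →* Y) (χ : Y → ℂ) (e : Al Y) (a : Al G) :
    lin (fun s => lin χ (e * dl (Φ s))) a = lin χ (e * mp Φ a) := by
  induction a using al_induction with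
  | hd g => rw [lin_dl, mp_dl]
  | ha a b ha hb => simp only [map_add, mul_add, ha, hb]
  | hs c a ha => simp only [map_smul, mul_smul_comm, ha]

/-- the character on the image of an idempotent -/
theorem isCharacter_corner (Φ : G →* Y) {χ : Y → ℂ} (hχ : IsCharacter Y χ) {e : Al Y} (he : e * e = e)
    (h : ∀ s, e * dl (Φ s) = dl (Φ s) * e) : IsCharacter G fun s => lin χ (e * dl (Φ s)) := by
  obtain ⟨n, ρ, rfl⟩ := hχ
  have hP : LinearMap.IsProj (LinearMap.range (ρ.asAlgebraHom e)) (ρ.asAlgebraHom e) :=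
    (LinearMap.isProj_range_iff_isIdempotentElem _).2 (by rw [IsIdempotentElem, ← map_mul, he])
  let r : Representation ℂ G (LinearMap.range (ρ.asAlgebraHom e)) :=
    { toFun := fun s => hP.codRestrict ∘ₗ ρ.asAlgebraHom (dl (Φ s)) ∘ₗ Submodule.subtype _
      map_one' := by
        ext1 v
        apply Subtype.ext
        show ρ.asAlgebraHom e (ρ.asAlgebraHom (dl (Φ 1)) v) = v
        rw [map_one, dl_one, map_one]
        exact hP.map_id _ v.2
      map_mul' := fun s t => by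
        ext1 v
        apply Subtype.ext
        show ρ.asAlgebraHom e (ρ.asAlgebraHom (dl (Φ (s * t))) v) = ρ.asAlgebraHom e (ρ.asAlgebraHom (dl (Φ s))
          (ρ.asAlgebraHom e (ρ.asAlgebraHom (dl (Φ t)) v)))
        simp only [← Module.End.mul_apply, ← map_mul ρ.asAlgebraHom]
        rw [map_mul Φ, dl_mul, ← mul_assoc (dl (Φ s)), ← h s, ← mul_assoc e (e * _), ← mul_assoc e e, he, mul_assoc] }
  have h1 : r.character = fun s => lin ρ.character (e * dl (Φ s)) := by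
    funext s
    rw [lin_eq, ← Blocks.GroupAlg.trace_asAlgebraHom, h s, map_mul]
    show LinearMap.trace ℂ _ (hP.codRestrict ∘ₗ ρ.asAlgebraHom (dl (Φ s)) ∘ₗ Submodule.subtype _) = _
    rw [LinearMap.trace_comp_comm', LinearMap.comp_assoc, hP.subtype_comp_codRestrict]
    rfl
  rw [← h1]
  exact isCharacter_of_rep r

theorem _root_.Cfsg.Agent.ODD.C3.tw_mp (σ : ℂ ≃+* ℂ) (Φ : G →* Y) {δ : G ≃* G} {d : Y ≃* Y} (h : ∀ s, d (Φ s) = Φ (δ s)) (a : Al G) :
    AH.tw σ d (mp Φ a) = mp Φ (AH.tw σ δ a) := by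
  induction a using al_induction with
  | hd g => rw [mp_dl, AH.tw_dl, AH.tw_dl, mp_dl, h]
  | ha a b ha hb => simp only [map_add, ha, hb]
  | hs c a ha => rw [map_smul, AH.tw_smul, AH.tw_smul, map_smul, ha]

variable [Finite G]

theorem cen_def [Fintype G] (ψ : G → ℂ) : cen ψ = (ψ 1 * (Nat.card G : ℂ)⁻¹) • ∑ g : G, ψ g⁻¹ • dl g := by
  unfold cen
  congr!

theorem cen_eq (ψ : IrrCharacter G) : cen (ψ : G → ℂ) = Blocks.GroupAlg.idem {ψ} := by
  classical
  have := finite_irr (G := G)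
  have := Fintype.ofFinite (IrrCharacter G)
  have := Fintype.ofFinite G
  rw [cen_def, H992.HT.eq_sum (Blocks.GroupAlg.idem {ψ}), Finset.smul_sum]
  refine Finset.sum_congr rfl fun g _ => ?_
  rw [smul_smul, Blocks.GroupAlg.coeff_idem, Blocks.GroupAlg.blockCoeff_eq_sum,
    isCharacter_apply_inv (isIrr_isCharacter ψ.2)]
  simp only [Set.mem_singleton_iff, Finset.sum_ite_eq', Finset.mem_univ, if_true]
  congr 1
  ring

theorem cen_comm (ψ : IrrCharacter G) (a : Al G) : cen (ψ : G → ℂ) * a = a * cen (ψ : G → ℂ) := by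
  rw [cen_eq]
  exact H992.HT.idem_comm _ a

theorem cen_mul_cen (ψ : IrrCharacter G) : cen (ψ : G → ℂ) * cen (ψ : G → ℂ) = cen (ψ : G → ℂ) := by
  rw [cen_eq]
  exact Blocks.GroupAlg.idem_mul_idem _

theorem lin_cen_self (ψ : IrrCharacter G) (a : Al G) : lin (ψ : G → ℂ) (cen (ψ : G → ℂ) * a) = lin (ψ : G → ℂ) a := by
  classical
  rw [cen_eq, lin_eq, lin_eq, H992.HT.lin_idem_mul, if_pos (Set.mem_singleton ψ)]

theorem lin_cen_ne {ψ χ : IrrCharacter G} (h : χ ≠ ψ) (a : Al G) : lin (χ : G → ℂ) (cen (ψ : G → ℂ) * a) = 0 := by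
  classical
  rw [cen_eq, lin_eq, H992.HT.lin_idem_mul, if_neg (show χ ∉ ({ψ} : Set (IrrCharacter G)) from h)]

theorem cen_idem (ψ : IrrCharacter G) {e : Al G} (he : e * e = e) :
    cen (ψ : G → ℂ) * e * (cen (ψ : G → ℂ) * e) = cen (ψ : G → ℂ) * e := by
  rw [mul_assoc, ← mul_assoc e, ← cen_comm, mul_assoc _ e e, he, ← mul_assoc, cen_mul_cen]

theorem tw_cen (σ : ℂ ≃+* ℂ) (δ : G ≃* G) {ψ : G → ℂ} (hψ : ∀ s, ψ (δ s) = σ (ψ s)) : AH.tw σ δ (cen ψ) = cen ψ := by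
  have := Fintype.ofFinite G
  rw [cen_def, AH.tw_smul, map_sum, map_mul, map_inv₀, map_natCast, ← hψ, map_one]
  congr 1
  refine Fintype.sum_equiv δ.toEquiv _ _ fun g => ?_
  rw [AH.tw_smul, AH.tw_dl, ← hψ, map_inv]
  rfl

theorem mp_av_mul (Φ : G →* Y) (P : Subgroup G) {b : Al Y} (h : ∀ p ∈ P, dl (Φ p) * b = b) :
    mp Φ (av (1 : P →* ℂˣ)) * b = b := by
  have := Fintype.ofFinite P
  rw [av_def, map_smul, map_sum, smul_mul_assoc, Finset.sum_mul, Finset.sum_congr rfl (g := fun _ => b) fun u _ => by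
    rw [MonoidHom.one_apply, inv_one, Units.val_one, one_smul, mp_dl, h u u.2], Finset.sum_const, Finset.card_univ,
    ← Nat.card_eq_fintype_card, ← Nat.cast_smul_eq_nsmul ℂ, smul_smul, inv_mul_cancel₀ (card_ne P), one_smul]

variable [Finite Y]

theorem eq_av {Q : Subgroup Y} {E : Al Y} (h1 : E * av (1 : Q →* ℂˣ) = av (1 : Q →* ℂˣ)) (h2 : ∀ u ∈ Q, E * dl u = E) :
    E = av (1 : Q →* ℂˣ) := by
  rw [← h1, ← mul_one (E * _)]
  refine (avg_eq _ fun u => ?_).symm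
  rw [MonoidHom.one_apply, inv_one, Units.val_one, one_smul, mul_one, h2 u u.2]

theorem dl_mul_av_one {Q : Subgroup Y} {u : Y} (hu : u ∈ Q) : dl u * av (1 : Q →* ℂˣ) = av (1 : Q →* ℂˣ) := by
  have := dl_mul_av (1 : Q →* ℂˣ) ⟨u, hu⟩
  rwa [MonoidHom.one_apply, Units.val_one, one_smul] at this

theorem av_one_mul_dl {Q : Subgroup Y} {u : Y} (hu : u ∈ Q) : av (1 : Q →* ℂˣ) * dl u = av (1 : Q →* ℂˣ) := by
  have := av_mul_dl (1 : Q →* ℂˣ) ⟨u, hu⟩
  rwa [MonoidHom.one_apply, Units.val_one, one_smul] at this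

theorem mp_av (Φ : G →* Y) {P : Subgroup G} {Q : Subgroup Y} (h : ∀ y, y ∈ Q ↔ ∃ p ∈ P, Φ p = y) :
    mp Φ (av (1 : P →* ℂˣ)) = av (1 : Q →* ℂˣ) := by
  refine eq_av (mp_av_mul Φ P fun p hp => dl_mul_av_one ((h _).2 ⟨p, hp, rfl⟩)) fun u hu => ?_
  obtain ⟨p, hp, rfl⟩ := (h u).1 hu
  rw [← mp_dl, ← map_mul, av_one_mul_dl hp]

end alg

/-! ### the root group -/

section root

variable {F : Type} [Field F] [Fintype F]

theorem x_add (r s : F) : SL2.x (r + s) = SL2.x r * SL2.x s := (SL2.data F).X_add r s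

theorem eph_mul_dl (φ : Multiplicative F →* ℂˣ) (s : F) :
    eph φ * dl (SL2.x s) = ((φ (Multiplicative.ofAdd s) : ℂˣ) : ℂ) • eph φ := by
  rw [eph, smul_mul_assoc, smul_comm ((φ (Multiplicative.ofAdd s) : ℂˣ) : ℂ)]
  congr 1
  rw [Finset.sum_mul, Finset.smul_sum]
  refine Fintype.sum_equiv (Equiv.addRight s) _ _ fun r => ?_
  rw [Equiv.coe_addRight, smul_mul_assoc, smul_smul, ofAdd_add, map_mul, mul_inv, Units.val_mul, x_add, dl_mul,
    mul_left_comm, Units.mul_inv, mul_one]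

theorem mul_eph {φ : Multiplicative F →* ℂˣ} {a : Al (S2 F)}
    (h : ∀ s, a * dl (SL2.x s) = ((φ (Multiplicative.ofAdd s) : ℂˣ) : ℂ) • a) : a * eph φ = a := by
  rw [eph, mul_smul_comm, Finset.mul_sum, Finset.sum_congr rfl (g := fun _ => a) fun r _ => by
    rw [mul_smul_comm, h, smul_smul, Units.inv_mul, one_smul], Finset.sum_const, Finset.card_univ,
    ← Nat.cast_smul_eq_nsmul ℂ, smul_smul, inv_mul_cancel₀ (cardF_ne F), one_smul]

theorem eph_mul_eph (φ : Multiplicative F →* ℂˣ) : eph φ * eph φ = eph φ := mul_eph (eph_mul_dl φ)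

theorem mp_eph_mul {Y : Type} [Group Y] (Φ : S2 F →* Y) {b : Al Y} (h : ∀ s, dl (Φ (SL2.x s)) * b = b) :
    mp Φ (eph 1) * b = b := by
  rw [eph, map_smul, map_sum, smul_mul_assoc, Finset.sum_mul, Finset.sum_congr rfl (g := fun _ => b) fun u _ => by
    rw [MonoidHom.one_apply, inv_one, Units.val_one, one_smul, mp_dl, h u], Finset.sum_const, Finset.card_univ,
    ← Nat.cast_smul_eq_nsmul ℂ, smul_smul, inv_mul_cancel₀ (cardF_ne F), one_smul]

theorem lin_eph (χ : S2 F → ℂ) (c : F) : lin χ (eph (psiHom c)) = (SL2.data F).cf χ c := by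
  rw [eph, map_smul, map_sum, Data.cf_def, four_def, smul_eq_mul]
  congr 1
  refine Finset.sum_congr rfl fun r _ => ?_
  rw [map_smul, lin_dl, smul_eq_mul, mul_comm, ← map_inv, psiHom_apply, toAdd_inv, toAdd_ofAdd, neg_mul]
  rfl

theorem psiHom_zero : psiHom (0 : F) = 1 := by
  refine MonoidHom.ext fun s => Units.ext ?_
  rw [psiHom_apply, mul_zero, AddChar.map_zero_eq_one]
  rfl

theorem psiHom_neg (c : F) : psiHom (-c) = (psiHom c)⁻¹ := by
  refine MonoidHom.ext fun s => Units.ext ?_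
  rw [MonoidHom.inv_apply, ← map_inv, psiHom_apply, psiHom_apply, toAdd_inv, neg_mul, mul_neg]

theorem exists_psiHom (φ : Multiplicative F →* ℂˣ) : ∃ c : F, psiHom c = φ := by
  have hinj : Function.Injective (psiHom : F → Multiplicative F →* ℂˣ) := fun c d h => by
    apply AddChar.to_mulShift_inj_of_isPrimitive (psi_prim F)
    ext s
    rw [AddChar.mulShift_apply, AddChar.mulShift_apply, mul_comm c, mul_comm d]
    exact congrArg (fun f : Multiplicative F →* ℂˣ => (f (Multiplicative.ofAdd s) : ℂ)) h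
  have := finite_hom (A := Multiplicative F) mul_comm
  exact (hinj.bijective_of_nat_card_le (card_hom (A := Multiplicative F) mul_comm).le).2 φ

theorem cusp_fc (ψ : IrrCharacter (S2 F)) {φ : Multiplicative F →* ℂˣ} (h1 : lin (ψ : S2 F → ℂ) (eph φ) = 1)
    (h0 : lin (ψ : S2 F → ℂ) (eph 1) = 0) : Cusp (fc ψ φ) φ := by
  have hi : fc (ψ : S2 F → ℂ) φ * fc ψ φ = fc ψ φ := cen_idem ψ (eph_mul_eph φ)
  refine ⟨hi, ?_, fun s => ?_, fun s => ?_⟩
  · rw [fc, ← mul_assoc, ← cen_comm, mul_assoc, eph_mul_eph]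
  · obtain ⟨c, hc⟩ := H992.HT.rank_one hi (χ₀ := ψ) (by rw [← lin_eq, fc, lin_cen_self, h1])
      (fun χ hχ => by rw [← lin_eq, fc, lin_cen_ne hχ]) (dl s)
    refine ⟨c, ?_⟩
    rw [← hc, fc, ← mul_assoc _ (cen _) (eph φ), ← cen_comm, ← mul_assoc, ← mul_assoc, cen_mul_cen]
  · have h2 : cen (ψ : S2 F → ℂ) * eph 1 = 0 := H992.HT.idem_eq_zero (cen_idem ψ (eph_mul_eph 1)) fun χ => by
      rw [← lin_eq]
      by_cases h : χ = ψ
      · rw [h, lin_cen_self, h0]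
      · exact lin_cen_ne h _
    rw [fc, mul_assoc (cen _), cen_comm, mul_assoc, h2, mul_zero]

theorem tw_eph (σ : ℂ ≃+* ℂ) (δ : S2 F ≃* S2 F) {k : F} (hδ : ∀ r, δ (SL2.x r) = SL2.x (k * r))
    {φ : Multiplicative F →* ℂˣ}
    (hφ : ∀ r, ((φ (Multiplicative.ofAdd (k * r)) : ℂˣ) : ℂ) = σ (φ (Multiplicative.ofAdd r) : ℂˣ)) :
    AH.tw σ δ (eph φ) = eph φ := by
  have hk : k ≠ 0 := by
    rintro rfl
    have h := (hδ 1).trans ((congrArg SL2.x (by rw [zero_mul, zero_mul])).trans (hδ 0).symm)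
    exact one_ne_zero ((SL2.data F).X_inj (δ.injective h))
  rw [eph, AH.tw_smul, map_sum, map_inv₀, map_natCast]
  congr 1
  refine Fintype.sum_equiv (Equiv.mulLeft₀ k hk) _ _ fun r => ?_
  rw [AH.tw_smul, AH.tw_dl, hδ, Units.val_inv_eq_inv_val, Units.val_inv_eq_inv_val, map_inv₀, ← hφ]
  rfl

/-- the idempotent is fixed by the twist -/
theorem _root_.Cfsg.Agent.ODD.C3.tw_fc (σ : ℂ ≃+* ℂ) (δ : S2 F ≃* S2 F) {ψ : S2 F → ℂ} (hψ : ∀ s, ψ (δ s) = σ (ψ s)) {k : F}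
    (hδ : ∀ r, δ (SL2.x r) = SL2.x (k * r)) {φ : Multiplicative F →* ℂˣ}
    (hφ : ∀ r, ((φ (Multiplicative.ofAdd (k * r)) : ℂˣ) : ℂ) = σ (φ (Multiplicative.ofAdd r) : ℂˣ)) :
    AH.tw σ δ (fc ψ φ) = fc ψ φ := by
  rw [fc, map_mul, tw_cen σ δ hψ, tw_eph σ δ hδ hφ]

theorem lin_borel [Fintype (S2 F)] {θ : S2 F → ℂ} (hθ : IsClassFunction _ θ) :
    lin θ (eph 1 * av (1 : (SL2.data F).T →* ℂˣ)) = classInner θ ((SL2.data F).ind 1) := by
  have : Fintype (SL2.data F).T := Fintype.ofFinite _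
  rw [(SL2.data F).classInner_ind hθ, classInner_def, ← mul_one (eph 1 * _), lin_av, smul_eq_mul]
  congr 1
  refine Finset.sum_congr rfl fun t _ => ?_
  rw [MonoidHom.one_apply, inv_one, Units.val_one, one_smul, map_one, mul_one, mul_one, Data.jac_def, eph,
    smul_mul_assoc, Finset.sum_mul, map_smul, map_sum, smul_eq_mul]
  congr 1
  refine Finset.sum_congr rfl fun r _ => ?_
  rw [MonoidHom.one_apply, inv_one, Units.val_one, one_smul, ← dl_mul, lin_dl]
  rfl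

/-- **the parity in `SL₂(q)`** -/
theorem parity (hq : Fintype.card F % 4 = 3) {θ : S2 F → ℂ} (hθ : IsCharacter _ θ) {d : ℕ} (hd : Odd d) (h1 : θ 1 = d) :
    (∃ d : ℕ, Odd d ∧ lin θ (eph 1 * av (1 : (SL2.data F).T →* ℂˣ)) = d) ∨
    ∃ ψ : S2 F → ℂ, IsIrrCharacter (S2 F) ψ ∧ Odd (charDegree ψ) ∧ ∀ φ : Multiplicative F →* ℂˣ, φ ≠ 1 →
      ∃ φ', (φ' = φ ∨ φ' = φ⁻¹) ∧ Cusp (fc ψ φ') φ' ∧ ∃ d : ℕ, Odd d ∧ lin θ (fc ψ φ') = d := by
  classical
  have := finite_irr (G := S2 F)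
  have : Fintype (IrrCharacter (S2 F)) := Fintype.ofFinite _
  have : Fintype (S2 F) := Fintype.ofFinite _
  have hnu : ¬ IsSquare (-1 : F) := fun h => FiniteField.isSquare_neg_one_iff.1 h hq
  obtain ⟨h, hh, hodd⟩ : ∃ h, Fintype.card F = 2 * h + 1 ∧ Odd h :=
    ⟨Fintype.card F / 2, by omega, by rw [Nat.odd_iff]; omega⟩
  obtain ⟨m, rfl⟩ := exists_nat_comb hθ
  obtain ⟨St, hSt⟩ : ∃ St : IrrCharacter (S2 F), SL2.ty (-1) St = (1, 1, 1) := by
    obtain ⟨a, ha⟩ := Finset.card_pos.1 (lt_of_lt_of_eq one_pos (SL2.counts hnu hh).2.2.2.2.1.symm)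
    exact ⟨a, (Finset.mem_filter.1 ha).2⟩
  have hT := SL2.ty_triv (nu := (-1 : F)) (neg_ne_zero.2 one_ne_zero)
  have dS : charDegree (St : S2 F → ℂ) = Fintype.card F := by rw [PS.S2.deg_ty hnu St hh, hSt, hh]; ring
  have dT : charDegree ((SL2.triv : IrrCharacter (S2 F)) : S2 F → ℂ) = 1 := by rw [PS.S2.deg_ty hnu _ hh, hT]; rfl
  have hne : St ≠ SL2.triv := fun e => by
    rw [e, hT] at hSt
    exact absurd hSt (by decide)
  have h2 : lin (∑ ψ : IrrCharacter (S2 F), m ψ • (ψ : S2 F → ℂ)) (eph 1 * av (1 : (SL2.data F).T →* ℂˣ)) =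
      (m St + m SL2.triv : ℕ) := by
    have h3 := (SL2.eq_ind_sub_one St.2 (by rw [Blocks.Basic.irr_one_eq_charDegree St.2, dS])).2.2
    rw [lin_borel (isCharacter_isClassFunction hθ), ← sub_add_cancel ((SL2.data F).ind 1) 1, ← h3,
      classInner_add_right, classInner_sum_nsmul_irr, Nat.cast_add]
    congr 1
    exact classInner_sum_nsmul_irr m SL2.triv
  by_cases h3 : Odd (m St + m SL2.triv)
  · exact Or.inl ⟨_, h3, h2⟩
  right
  have h4 : d = ∑ ψ : IrrCharacter (S2 F), m ψ * charDegree (ψ : S2 F → ℂ) := by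
    rw [Finset.sum_apply] at h1
    simp only [Pi.smul_apply, nsmul_eq_mul, fun ψ : IrrCharacter (S2 F) => Blocks.Basic.irr_one_eq_charDegree ψ.2] at h1
    exact_mod_cast h1.symm
  obtain ⟨ψ, h5, h6⟩ : ∃ ψ ∈ (Finset.univ.erase St).erase SL2.triv, Odd (m ψ * charDegree (ψ : S2 F → ℂ)) := by
    by_contra h5
    push Not at h5
    have h6 := Finset.even_sum _ fun ψ hψ => Nat.not_odd_iff_even.1 (h5 ψ hψ)
    rw [← Finset.add_sum_erase _ _ (Finset.mem_univ St), ← Finset.add_sum_erase _ _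
      (Finset.mem_erase.2 ⟨hne.symm, Finset.mem_univ SL2.triv⟩), dS, dT, hh, mul_one, mul_add, mul_one,
      mul_left_comm] at h4
    rw [Nat.odd_iff] at hd h3
    rw [Nat.even_iff] at h6
    omega
  obtain ⟨h7, h8⟩ := Nat.odd_mul.1 h6
  have h9 : SL2.ty (-1) ψ = (0, 1, 0) ∨ SL2.ty (-1) ψ = (0, 0, 1) := by
    have h10 := h8
    rw [PS.S2.deg_ty hnu ψ hh] at h10
    rcases PS.S2.ty_odd hnu ψ h8 with e | e | e | e | e | e
    · exact absurd (PS.S2.eq_of_ty hnu h8 (hT.trans e.symm)).symm (Finset.mem_erase.1 h5).1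
    · rw [e, Nat.odd_iff] at h10
      rw [Nat.odd_iff] at hodd
      simp only at h10
      omega
    · rw [e, Nat.odd_iff] at h10
      rw [Nat.odd_iff] at hodd
      simp only at h10
      omega
    · exact absurd (PS.S2.eq_of_ty hnu h8 (hSt.trans e.symm)).symm (Finset.mem_erase.1 (Finset.mem_erase.1 h5).2).1
    · exact Or.inl e
    · exact Or.inr e
  have key : ∀ c : F, (SL2.data F).n ψ c = 1 →
      Cusp (fc ψ (psiHom c)) (psiHom c) ∧
        ∃ d : ℕ, Odd d ∧ lin (∑ ψ : IrrCharacter (S2 F), m ψ • (ψ : S2 F → ℂ)) (fc ψ (psiHom c)) = d := fun c hc => by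
    have e1 : lin (ψ : S2 F → ℂ) (eph (psiHom c)) = 1 := by rw [lin_eph, Data.cf_eq_n, hc, Nat.cast_one]
    have e0 : (SL2.data F).n ψ 0 = 0 := by rcases h9 with e | e <;> exact congrArg Prod.fst e
    refine ⟨cusp_fc ψ e1 (by rw [← psiHom_zero, lin_eph, Data.cf_eq_n, e0, Nat.cast_zero]), m ψ, h7, ?_⟩
    rw [lin_comb, Finset.sum_eq_single ψ (fun χ _ hχ => by rw [fc, lin_cen_ne hχ, mul_zero])
      fun k => absurd (Finset.mem_univ _) k, fc, lin_cen_self, e1, mul_one]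
  refine ⟨ψ, ψ.2, h8, fun φ hφ => ?_⟩
  obtain ⟨c, rfl⟩ := exists_psiHom φ
  have hc : c ≠ 0 := fun e => hφ (by rw [e, psiHom_zero])
  have hsq : IsSquare c ↔ ¬ IsSquare (-c) := by
    rw [← quadraticChar_one_iff_isSquare hc, ← quadraticChar_neg_one_iff_not_isSquare, ← neg_one_mul c, map_mul,
      quadraticChar_neg_one_iff_not_isSquare.2 hnu, neg_one_mul, neg_inj]
  have h10 : (SL2.data F).n ψ c = 1 ∨ (SL2.data F).n ψ (-c) = 1 := by
    rcases h9 with e | e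
    · have e1 : (SL2.data F).n ψ 1 = 1 := congrArg (fun p => p.2.1) e
      by_cases k : IsSquare c
      · exact Or.inl ((SL2.n_square ψ hc k).trans e1)
      · exact Or.inr ((SL2.n_square ψ (neg_ne_zero.2 hc) (not_not.1 fun k' => k (hsq.2 k'))).trans e1)
    · have e1 : (SL2.data F).n ψ (-1) = 1 := congrArg (fun p => p.2.2) e
      by_cases k : IsSquare c
      · exact Or.inr ((SL2.n_not_square ψ (hsq.1 k) hnu).trans e1)
      · exact Or.inl ((SL2.n_not_square ψ k hnu).trans e1)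
  rcases h10 with e | e
  · exact ⟨_, Or.inl rfl, key c e⟩
  · exact ⟨_, Or.inr (psiHom_neg c), key (-c) e⟩

end root

/-! ### the node -/

section node

variable {I W Y : Type} [Fintype I] [DecidableEq I] [Group W] [Finite W] [Group Y] [Finite Y]
  {M : CoxeterMatrix I} {cs : CoxeterSystem M W} {A : I → I → ℤ} {h : IsCartan M A} {p : ℕ} {T : Subgroup Y}
  {n : I → Y} {X : (I → ℤ) → Subgroup Y} {F : Type} [Field F] [Fintype F] {R : RGD cs h p T n X} {l : I}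
  {Φ : S2 F →* Y} (N : Nd R l Φ)

include N

theorem mem_norm (s : S2 F) : Φ s ∈ Subgroup.normalizer (VV cs h X l : Set Y) := by
  have hT : T ≤ Subgroup.normalizer (VV cs h X l : Set Y) := R.T_le_normalizer fun _ hx => hx.1
  have hx : ∀ r, Φ (SL2.x r) ∈ Subgroup.normalizer (VV cs h X l : Set Y) := fun r =>
    R.X_le_normalizer_V l ((N.mem _).2 ⟨r, rfl⟩)
  have hw : Φ SL2.wel ∈ Subgroup.normalizer (VV cs h X l : Set Y) := by
    rw [← mul_inv_cancel_left (n l) (Φ SL2.wel)]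
    exact mul_mem (mem_normalizer_iff_cj.2 (R.cj_n_V l)) (hT ((rp_simple cs R.nsys l).unique N.wel))
  rcases (SL2.data F).bruhat s with ⟨r, t, ⟨u, rfl⟩, rfl⟩ | ⟨r, r', t, ⟨u, rfl⟩, rfl⟩
  · rw [map_mul]
    exact mul_mem (hx r) (hT (N.tor u))
  · rw [map_mul, map_mul, map_mul]
    exact mul_mem (mul_mem (mul_mem (hx r) hw) (hT (N.tor u))) (hx r')

theorem eV_comm (s : S2 F) : eV cs h X l * dl (Φ s) = dl (Φ s) * eV cs h X l :=
  (dl_comm_av _ (mem_norm N s) fun _ _ => rfl).symm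

theorem eV_mul_eph : eV cs h X l * mp Φ (eph 1) = eU cs h X := by
  refine eq_av ?_ fun u hu => ?_
  · rw [mul_assoc, mp_eph_mul Φ fun s => dl_mul_av_one (X_le_U l ((N.mem _).2 ⟨s, rfl⟩))]
    have h1 := avg_eq (1 : VV cs h X l →* ℂˣ) (a := 1) (b := eU cs h X) (c := eU cs h X) fun v => by
      rw [MonoidHom.one_apply, inv_one, Units.val_one, one_smul, one_mul, dl_mul_eU (V_le_U l v.2)]
    rwa [one_mul] at h1
  · obtain ⟨v, hv, x, hx, rfl⟩ := exists_vx R l hu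
    obtain ⟨s, rfl⟩ := (N.mem _).1 hx
    have h1 : eV cs h X l * dl v = eV cs h X l := av_one_mul_dl hv
    rw [dl_mul, ← mul_assoc, comm_mp Φ (eV_comm N), mul_assoc _ _ (dl v), h1, ← comm_mp Φ (eV_comm N), mul_assoc,
      ← mp_dl, ← map_mul, eph_mul_dl, MonoidHom.one_apply, Units.val_one, one_smul]

end node

/-- **Task 337.** -/
theorem _root_.Cfsg.Agent.ODD.C3.qs : QS := by
  intro I W Y _ _ _ _ _ _ M cs A h p T n X R F _ _ l Φ N hq χ hχ ⟨d, hd, e⟩
  have h1 := parity hq (isCharacter_corner Φ hχ (e := eV cs h X l) (av_mul_av _) (eV_comm N)) hd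
    (by rw [map_one, dl_one, mul_one, e])
  simp only [lin_mp] at h1
  rw [map_mul (mp Φ), ← mul_assoc, eV_mul_eph N, mp_av Φ (P := (SL2.data F).T) (Q := (Φ.comp SL2.tor).range) fun y =>
    ⟨fun ⟨u, hu⟩ => ⟨_, ⟨u, rfl⟩, hu⟩, by rintro ⟨_, ⟨u, rfl⟩, hu⟩; exact ⟨u, hu⟩⟩] at h1
  exact h1

end Cfsg.Agent.ODD.C3.Q
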