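import Cfsg.Agent.ODD.PS.C3Defs
import Cfsg.Agent.ODD.PW.TypeC

/-!
# ODD / GAL: `SL₂(F)` acting on a hyperbolic plane of the symplectic frame (helper1)

* `P0 l : SL₂(F) →* isos (form k F)`, `Phi l : SL₂(F) →* PSp k F`;
* `P0_e`, `P0_f`, `P0_ne` : the action on the frame; `mem_CS` : an isometry fixing the plane centralises the image.
-/

set_option autoImplicit false
set_option linter.unusedSectionVars false

open Cfsg

namespace Cfsg.Agent.ODD.C3

open Cfsg.Agent.ClassicalGeometry.SympBasic Cfsg.Agent.H670 Cfsg.Agent.H670.SL2 Cfsg.Agent.ODD.PS.C3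
open Cfsg.Agent.TitsThree Cfsg.Agent.TitsThree.Siegel Cfsg.Agent.TitsThree.WittFrame Cfsg.Agent.TitsThree.WittWeyl
  Cfsg.Agent.TitsThree.SpIdent
open Cfsg.Agent.Nodes Cfsg.Agent.Nodes.WittRoot Cfsg.Agent.H69.OQ

variable {F : Type} [Field F] {k : ℕ}

/-- the action of `g` on the plane `l` -/
def pl (l : Fin k) (g : S2 F) (v : Fin k ⊕ Fin k → F) : Fin k ⊕ Fin k → F :=
  v + ((e00 g - 1) * sympForm k F v (f k F l) - e01 g * sympForm k F v (e k F l)) • e k F l +
    (e10 g * sympForm k F v (f k F l) - (e11 g - 1) * sympForm k F v (e k F l)) • f k F l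

theorem ef' (l : Fin k) : sympForm k F (e k F l) (f k F l) = 1 := by rw [ef, if_pos rfl]

theorem fe' (l : Fin k) : sympForm k F (f k F l) (e k F l) = -1 := by rw [fe, if_pos rfl]

theorem pl_hf (l : Fin k) (g : S2 F) (v : Fin k ⊕ Fin k → F) :
    sympForm k F (pl l g v) (f k F l) = e00 g * sympForm k F v (f k F l) - e01 g * sympForm k F v (e k F l) := by
  rw [pl, sympForm_add_left, sympForm_add_left, sympForm_smul_left, sympForm_smul_left, ef', ff]
  ring

theorem pl_he (l : Fin k) (g : S2 F) (v : Fin k ⊕ Fin k → F) :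
    sympForm k F (pl l g v) (e k F l) = e11 g * sympForm k F v (e k F l) - e10 g * sympForm k F v (f k F l) := by
  rw [pl, sympForm_add_left, sympForm_add_left, sympForm_smul_left, sympForm_smul_left, fe', ee]
  ring

theorem pl_mul (l : Fin k) (g h : S2 F) (v : Fin k ⊕ Fin k → F) : pl l (g * h) v = pl l g (pl l h v) := by
  conv_rhs => rw [pl, pl_hf, pl_he]
  rw [pl, pl, mul00, mul01, mul10, mul11]
  module

theorem pl_one (l : Fin k) (v : Fin k ⊕ Fin k → F) : pl l (1 : S2 F) v = v := by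
  have h0 : e00 (1 : S2 F) = 1 := rfl
  have h1 : e01 (1 : S2 F) = 0 := rfl
  have h2 : e10 (1 : S2 F) = 0 := rfl
  have h3 : e11 (1 : S2 F) = 1 := rfl
  rw [pl, h0, h1, h2, h3]
  module

theorem pl_iso (l : Fin k) (g : S2 F) (v w : Fin k ⊕ Fin k → F) :
    sympForm k F (pl l g v) (pl l g w) = sympForm k F v w := by
  conv_lhs => rw [pl.eq_1 l g w, sympForm_add_right, sympForm_add_right, sympForm_smul_right, sympForm_smul_right, pl_hf,
    pl_he, pl, sympForm_add_left, sympForm_add_left, sympForm_smul_left, sympForm_smul_left,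
    sympForm_swap (e k F l) w, sympForm_swap (f k F l) w]
  linear_combination (sympForm k F v (f k F l) * sympForm k F w (e k F l) -
    sympForm k F v (e k F l) * sympForm k F w (f k F l)) * (-det_eq g)

/-- `pl` as a linear automorphism -/
def plE (l : Fin k) (g : S2 F) : (Fin k ⊕ Fin k → F) ≃ₗ[F] (Fin k ⊕ Fin k → F) where
  toFun := pl l g
  map_add' v w := by
    rw [pl, pl, pl, sympForm_add_left, sympForm_add_left]
    module
  map_smul' c v := by
    rw [pl, pl, sympForm_smul_left, sympForm_smul_left, RingHom.id_apply]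
    module
  invFun := pl l g⁻¹
  left_inv v := by rw [← pl_mul, inv_mul_cancel, pl_one]
  right_inv v := by rw [← pl_mul, mul_inv_cancel, pl_one]

/-- `SL₂(F)` in the symplectic group -/
def P0 (l : Fin k) : S2 F →* isos (form k F) where
  toFun g := ⟨plE l g, pl_iso l g⟩
  map_one' := Subtype.ext (LinearEquiv.ext (pl_one l))
  map_mul' g h := Subtype.ext (LinearEquiv.ext (pl_mul l g h))

theorem P0_apply (l : Fin k) (g : S2 F) (v : Fin k ⊕ Fin k → F) : (P0 l g).1 v = pl l g v := rfl

theorem P0_e (l : Fin k) (g : S2 F) :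
    (P0 l g).1 ((frame k F).b (l, true)) = e00 g • (frame k F).b (l, true) + e10 g • (frame k F).b (l, false) := by
  rw [P0_apply, frame_b_true, frame_b_false, pl, ef', ee]
  module

theorem P0_f (l : Fin k) (g : S2 F) :
    (P0 l g).1 ((frame k F).b (l, false)) = e01 g • (frame k F).b (l, true) + e11 g • (frame k F).b (l, false) := by
  rw [P0_apply, frame_b_true, frame_b_false, pl, fe', ff]
  module

theorem P0_ne (l : Fin k) (g : S2 F) {z : Fin k × Bool} (hz : z.1 ≠ l) :
    (P0 l g).1 ((frame k F).b z) = (frame k F).b z := by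
  have h1 : sympForm k F ((frame k F).b z) (e k F l) = 0 := (frame k F).hb_of_ne (y := (l, true)) hz
  have h2 : sympForm k F ((frame k F).b z) (f k F l) = 0 := (frame k F).hb_of_ne (y := (l, false)) hz
  rw [P0_apply, pl, h1, h2]
  module

theorem ext_b {g h : (Fin k ⊕ Fin k → F) ≃ₗ[F] (Fin k ⊕ Fin k → F)}
    (hb : ∀ z, g ((frame k F).b z) = h ((frame k F).b z)) : g = h :=
  ext_of WittU.amb_Sp hb fun w hw => by rw [(Submodule.mem_bot F).1 hw, map_zero, map_zero]

/-- an isometry fixing the plane commutes with the image -/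
theorem comm_P0 {l : Fin k} {t : isos (form k F)} (h1 : t.1 ((frame k F).b (l, true)) = (frame k F).b (l, true))
    (h2 : t.1 ((frame k F).b (l, false)) = (frame k F).b (l, false)) (g : S2 F) : P0 l g * t = t * P0 l g := by
  refine Subtype.ext (LinearEquiv.ext fun v => ?_)
  have h3 : t.1 (e k F l) = e k F l := h1
  have h4 : t.1 (f k F l) = f k F l := h2
  have h5 : sympForm k F (t.1 v) (e k F l) = sympForm k F v (e k F l) := by
    conv_lhs => rw [← h3]
    exact t.2 _ _
  have h6 : sympForm k F (t.1 v) (f k F l) = sympForm k F v (f k F l) := by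
    conv_lhs => rw [← h4]
    exact t.2 _ _
  show pl l g (t.1 v) = t.1 (pl l g v)
  rw [pl, pl, h5, h6, map_add, map_add, map_smul, map_smul, h3, h4]

/-- `SL₂(F) → PSp` -/
noncomputable def Phi (l : Fin k) : S2 F →* PSp k F := toPSp.comp (P0 l)

theorem Phi_apply (l : Fin k) (g : S2 F) : Phi l g = toPSp (P0 l g) := rfl

theorem mem_CS {l : Fin k} {t : isos (form k F)} (h1 : t.1 ((frame k F).b (l, true)) = (frame k F).b (l, true))
    (h2 : t.1 ((frame k F).b (l, false)) = (frame k F).b (l, false)) : toPSp t ∈ CS (Phi l) := by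
  rintro _ ⟨g, rfl⟩
  rw [Phi_apply, ← map_mul, ← map_mul, comm_P0 h1 h2]

theorem P0_x (l : Fin k) (s : F) : (P0 l (x s)).1 = (frame k F).Z (l, true) (adm (-s)) := by
  refine ext_b fun z => ?_
  by_cases h1 : z.1 = l
  · obtain ⟨j, b⟩ := z
    obtain rfl : j = l := h1
    cases b
    · rw [P0_f, x01, x11]
      refine Eq.trans ?_ (Z_apply_neg (frame k F) (j, true) (adm (-s))).symm
      show _ = (frame k F).b (j, false) + (-1 : F) • (0 : Fin k ⊕ Fin k → F) + (-s * -1) • (frame k F).b (j, true)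
      module
    · rw [P0_e, x00, x10, Z_apply_of_ne _ (ne_neg_self _)]
      module
  · rw [P0_ne l _ h1, Z_apply_of_ne _ fun h => h1 (by rw [h]; rfl)]

theorem ev_P0_tor (l : Fin k) (u : Fˣ) : PW.Ev (frame k F) (P0 l (tor u)).1 fun z => u ^ PW.e (l, true) z := fun z => by
  beta_reduce
  by_cases h1 : z.1 = l
  · obtain ⟨j, b⟩ := z
    obtain rfl : j = l := h1
    cases b
    · rw [P0_f, tor01, tor11, show ((j, false) : Fin k × Bool) = TypeC.ng (j, true) from rfl, PW.e_ng, PW.e_self,
        zpow_neg_one, zero_smul, zero_add]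
    · rw [P0_e, tor00, tor10, PW.e_self, zpow_one, zero_smul, add_zero]
  · rw [P0_ne l _ h1, PW.e_ne h1, zpow_zero, Units.val_one, one_smul]

theorem mono_P0_wel {l : Fin k} (hl : ¬ (l : ℕ) + 1 < k) : Mono (frame k F) (P0 l wel).1 (TypeC.sg l) := fun z => by
  by_cases h1 : z.1 = l
  · obtain ⟨j, b⟩ := z
    obtain rfl : j = l := h1
    rw [TypeC.sg_last hl]
    cases b
    · exact ⟨1, one_ne_zero, by rw [P0_f, wel01, wel11, zero_smul, add_zero]; rfl⟩
    · exact ⟨-1, neg_ne_zero.2 one_ne_zero, by rw [P0_e, wel00, wel10, zero_smul, zero_add]; rfl⟩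
  · refine ⟨1, one_ne_zero, ?_⟩
    rw [one_smul, TypeC.sg_of_ne h1 (fun h' => by have := z.1.2; omega), P0_ne l _ h1]

end Cfsg.Agent.ODD.C3
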